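import Cfsg.Agent.INV.EqOrd.AffMain
import Cfsg.Agent.FGS.SylowNum
import Cfsg.Agent.CLAS.SL2Sylow
import Cfsg.Agent.CLAS.PGL2Map
import Cfsg.Agent.KSG.PSL2Basic
import Cfsg.Agent.PERM.SpecGL2
import Cfsg.Agent.S0813

/-!
# Normal subgroups `PSL₂(q)` of groups whose abelian `p`-subgroups of equal order are conjugate
-/

set_option autoImplicit false

namespace CL.EqOrd

open Cfsg Subgroup CL.MSS
open scoped MatrixGroups

section field

variable {F : Type*} [Field F] [Fintype F] {p : ℕ} [hp : Fact p.Prime]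

theorem card_sylows_psl [CharP F p] : Nat.card (Sylow p PSL(2, F)) = Fintype.card F + 1 := by
  obtain ⟨P⟩ : Nonempty (Sylow p SL(2, F)) := inferInstance
  rw [← SL2.card_projectiveLine, Nat.card_congr (Equiv.ofBijective _ (SL2.bijective_sylowOfVec (F := F) p))]
  exact SN.card_sylow_quotient_of_le_normalizer P _ (center_le_normalizer _)

theorem coprime_char_pow {f : ℕ} (hF : Fintype.card F = p ^ f) :
    p.Coprime (Fintype.card F + 1) ∧ p.Coprime (Fintype.card F - 1) := by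
  have h1 : 1 < Fintype.card F := Fintype.one_lt_card
  have h2 : p ∣ Fintype.card F := hF ▸ dvd_pow_self p (by rintro rfl; simp [hF] at h1)
  refine ⟨(hp.out.coprime_iff_not_dvd).2 fun h => ?_, (hp.out.coprime_iff_not_dvd).2 fun h => ?_⟩
  · exact hp.out.one_lt.ne' (Nat.dvd_one.1 ((Nat.dvd_add_right h2).1 h))
  · have := Nat.dvd_sub h2 h
    rw [Nat.sub_sub_self h1.le] at this
    exact hp.out.one_lt.ne' (Nat.dvd_one.1 this)

theorem card_sylow_psl {f : ℕ} (hF : Fintype.card F = p ^ f) (P : Sylow p PSL(2, F)) :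
    Nat.card P = Fintype.card F := by
  classical
  obtain ⟨h1, h2⟩ := coprime_char_pow hF
  have h3 := GL2.gcd_mul_card_PSL2 (F := F)
  obtain ⟨k, hk⟩ := P.isPGroup'.exists_card_eq
  refine Nat.dvd_antisymm ?_ ?_
  · have h4 : Nat.card P ∣ Fintype.card F * ((Fintype.card F + 1) * (Fintype.card F - 1)) := by
      rw [← mul_assoc, ← h3]
      exact (card_subgroup_dvd_card (P : Subgroup PSL(2, F))).mul_left _
    exact (hk ▸ (h1.mul_right h2).pow_left k : Nat.Coprime (Nat.card P) _).dvd_of_dvd_mul_right h4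
  · have h4 : Fintype.card F ∣ Nat.card P * (Nat.gcd 2 (Fintype.card F - 1) * (P : Subgroup PSL(2, F)).index) := by
      rw [mul_left_comm]
      exact (Dvd.intro _ (mul_assoc _ _ _).symm).trans
        (h3.symm.trans (congrArg _ (P : Subgroup PSL(2, F)).card_mul_index.symm)).dvd
    refine Nat.Coprime.dvd_of_dvd_mul_right ?_ h4
    rw [hF]
    exact ((h2.of_dvd_right (hF ▸ Nat.gcd_dvd_right _ _)).mul_right
      (hp.out.coprime_iff_not_dvd.2 P.not_dvd_index)).pow_left _

theorem psl_pow_char {f : ℕ} (hF : Fintype.card F = p ^ f) {x : PSL(2, F)} {k : ℕ} (hx : x ^ p ^ k = 1) :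
    x ^ p = 1 := by
  have hc : CharP F p := charP_of_card_eq_prime_pow hF
  obtain ⟨h1, h2⟩ := coprime_char_pow hF
  have h3 := orderOf_dvd_of_pow_eq_one hx
  rcases (Spec.spec_PSL2 (F := F)).le ⟨x, rfl⟩ with h | h | h
  · rwa [ringChar.eq F p, orderOf_dvd_iff_pow_eq_one] at h
  · rw [orderOf_eq_one_iff.1 (Nat.eq_one_of_dvd_coprimes (h2.pow_left k) h3
      (h.trans (Nat.div_dvd_of_dvd (Nat.gcd_dvd_left _ _)))), one_pow]
  · rw [orderOf_eq_one_iff.1 (Nat.eq_one_of_dvd_coprimes (h1.pow_left k) h3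
      (h.trans (Nat.div_dvd_of_dvd (Nat.gcd_dvd_left _ _)))), one_pow]

theorem card_aut_psl {f : ℕ} (hF : Fintype.card F = p ^ f) (h4 : 4 ≤ Fintype.card F) :
    Nat.card (MulAut PSL(2, F)) = f * (Fintype.card F * (Fintype.card F + 1) * (Fintype.card F - 1)) := by
  rw [Cfsg.Agent.S0813.result p f (by
    by_contra h
    obtain rfl : f = 0 := by omega
    simp [hF] at h4) hF 2 le_rfl (fun _ => hF ▸ h4), PGL2.card_PGL2, Nat.card_eq_fintype_card,
    ← one_pow 2, Nat.sq_sub_sq]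
  simp [mul_assoc]

/-- a unipotent element of `PSL₂(q)`, `q ≡ 3 (mod 4)`: odd centralizer, not real -/
theorem exists_unipotent [CharP F p] (h3 : Fintype.card F % 4 = 3) :
    ∃ u : PSL(2, F), orderOf u = p ∧ Odd (Nat.card (centralizer {u})) ∧ ∀ g, g * u * g⁻¹ ≠ u⁻¹ := by
  classical
  have h2 : (2 : F) ≠ 0 := fun e => by
    have := GL2.two_dvd_card_of_two_eq_zero e
    omega
  have h4 := GL2.not_reg_upSL_one (1 : F)
  have h5 := GL2.not_isScal_upSL_one (one_ne_zero (α := F))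
  refine ⟨GL2.pslMk F (GL2.upSL 1 1), GL2.orderOf_pslMk_eq_char p h4 h5, ?_, fun g hg => ?_⟩
  · have h6 := GL2.card_map_pslMk (GL2.center_le_centSL ((GL2.upSL 1 1 : SL(2, F)) : Matrix (Fin 2) (Fin 2) F))
    rw [GL2.card_centSL_of_not_reg h4 h5, GL2.gcd_odd h2] at h6
    rw [← GL2.map_pcent, GL2.pcent_eq_centSL h2 (GL2.trace_ne_zero_of_not_reg h2 h4), Nat.odd_iff]
    omega
  · obtain ⟨g, rfl⟩ := GL2.pslMk_surjective g
    rw [mul_inv_eq_iff_eq_mul, eq_inv_mul_iff_mul_eq, ← map_mul, ← map_mul, GL2.pslMk_eq_iff] at hg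
    have hd := g.det_coe
    rw [Matrix.det_fin_two] at hd
    rcases hg with hg | hg
    · have h6 := congrArg (fun m : SL(2, F) => m 0 0) hg
      have h7 := congrArg (fun m : SL(2, F) => m 0 1) hg
      simp [GL2.coe_upSL_one, Matrix.mul_apply, Fin.sum_univ_two, Matrix.vecMul, dotProduct] at h6 h7
      refine FiniteField.isSquare_neg_one_iff.1 ⟨g 0 0, ?_⟩ h3
      linear_combination hd + (g 0 0 + g 0 1) * h6 - g 0 0 * h7
    · have h6 := congrArg (fun m : SL(2, F) => m 0 0) hg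
      have h7 := congrArg (fun m : SL(2, F) => m 1 0) hg
      simp [GL2.coe_upSL_one, Matrix.mul_apply, Fin.sum_univ_two, Matrix.vecMul, dotProduct] at h6 h7
      have h8 : g 1 0 = 0 := (mul_eq_zero.1 (show 2 * g 1 0 = 0 by linear_combination h7)).resolve_left h2
      have h9 : g 0 0 = 0 := (mul_eq_zero.1 (show 2 * g 0 0 = 0 by linear_combination h6 - h8)).resolve_left h2
      simp [h8, h9] at hd

end field

end CL.EqOrd
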