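import Cfsg.Agent.INV.EqOrd.Count
import Cfsg.Agent.ODD.AbelemRep
import Cfsg.Agent.CLAS.FieldAut
import Cfsg.Agent.S3360
import Cfsg.Prelude.Def_Perm

/-!
# Solvable groups with a self-centralizing elementary abelian normal Sylow subgroup as semi-affine groups
-/

set_option autoImplicit false

namespace CL.EqOrd

open Cfsg Subgroup CL.MSS

section Semi

variable {K : Type*} [Field K]

/-- the map `x ↦ a σ(x) + b` -/
def saPerm (a : Kˣ) (b : K) (σ : K ≃+* K) : semiaffineGroup K :=
  ⟨(σ.toEquiv.trans (Units.mulLeft a)).trans (Equiv.addRight b), a, b, σ, fun _ => rfl⟩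

theorem saPerm_apply (a : Kˣ) (b : K) (σ : K ≃+* K) (x : K) :
    (saPerm a b σ : Equiv.Perm K) x = a * σ x + b := rfl

theorem sa_unique {a c : Kˣ} {b d : K} {σ τ : K ≃+* K} (h : ∀ x, a * σ x + b = c * τ x + d) :
    a = c ∧ b = d ∧ σ = τ := by
  have h0 : b = d := by simpa using h 0
  subst h0
  have h1 : a = c := Units.ext (by simpa using h 1)
  subst h1
  exact ⟨rfl, rfl, RingEquiv.ext fun x => by simpa using h x⟩

theorem card_semiaffine [Fintype K] : Nat.card (semiaffineGroup K) =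
    (Fintype.card K - 1) * (Fintype.card K * Nat.card (K ≃+* K)) := by
  classical
  rw [← Nat.card_congr (Equiv.ofBijective (fun z : Kˣ × K × (K ≃+* K) => saPerm z.1 z.2.1 z.2.2) ⟨?_, ?_⟩),
    Nat.card_prod, Nat.card_prod, Nat.card_eq_fintype_card, Nat.card_eq_fintype_card (α := K),
    Fintype.card_units]
  · rintro ⟨a, b, σ⟩ ⟨c, d, τ⟩ e
    obtain ⟨rfl, rfl, rfl⟩ := sa_unique (a := a) (c := c) (b := b) (d := d) (σ := σ) (τ := τ) fun x =>
      congrArg (fun g : semiaffineGroup K => (g : Equiv.Perm K) x) e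
    rfl
  · rintro ⟨g, a, b, σ, h⟩
    exact ⟨(a, b, σ), Subtype.ext (Equiv.ext fun x => (h x).symm)⟩

theorem affine_le : affineGroup K ≤ semiaffineGroup K := fun _ ⟨a, b, h⟩ => ⟨a, b, RingEquiv.refl K, h⟩

theorem card_affine [Fintype K] : Nat.card (affineGroup K) = (Fintype.card K - 1) * Fintype.card K := by
  classical
  rw [← Nat.card_congr (Equiv.ofBijective (fun z : Kˣ × K =>
    (⟨saPerm z.1 z.2 (RingEquiv.refl K), z.1, z.2, fun _ => rfl⟩ : affineGroup K)) ⟨?_, ?_⟩),
    Nat.card_prod, Nat.card_eq_fintype_card, Nat.card_eq_fintype_card (α := K), Fintype.card_units]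
  · rintro ⟨a, b⟩ ⟨c, d⟩ e
    obtain ⟨rfl, rfl, -⟩ := sa_unique (a := a) (c := c) (b := b) (d := d) (σ := RingEquiv.refl K)
      (τ := RingEquiv.refl K) fun x => congrArg (fun g : affineGroup K => (g : Equiv.Perm K) x) e
    rfl
  · rintro ⟨g, a, b, h⟩
    exact ⟨(a, b), Subtype.ext (Equiv.ext fun x => (h x).symm)⟩

theorem affine_normal : ((affineGroup K).subgroupOf (semiaffineGroup K)).Normal := ⟨by
  rintro ⟨g, hg⟩ ⟨a, b, h⟩ ⟨k, c, d, σ, hk⟩
  refine ⟨Units.map (σ : K →* K) a, c * σ b + d - σ a * d, fun x => ?_⟩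
  obtain ⟨y, rfl⟩ := k.surjective x
  change k (g (k⁻¹ (k y))) = _
  have h' : ∀ x, g x = a * x + b := h
  rw [show k⁻¹ (k y) = y from k.symm_apply_apply y, h', hk, hk]
  simp only [map_add, map_mul, Units.coe_map, MonoidHom.coe_coe]
  ring⟩

/-- translations -/
def trHom (K : Type*) [Field K] : Multiplicative K →* semiaffineGroup K :=
  MonoidHom.mk' (fun b => saPerm 1 b.toAdd (RingEquiv.refl K)) fun b c => Subtype.ext (Equiv.ext fun x => by
    simp only [coe_mul, Equiv.Perm.mul_apply, saPerm_apply, toAdd_mul, Units.val_one, RingEquiv.refl_apply]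
    ring)

theorem trHom_apply (b : Multiplicative K) (x : K) : (trHom K b : Equiv.Perm K) x = x + b.toAdd := by
  change ((1 : Kˣ) : K) * x + _ = _
  simp

theorem trHom_injective : Function.Injective (trHom K) := fun b c e => by
  have := congrArg (fun g : semiaffineGroup K => (g : Equiv.Perm K) 0) e
  simpa [trHom_apply] using this

/-- multiplications -/
def scHom (K : Type*) [Field K] : Kˣ →* semiaffineGroup K :=
  MonoidHom.mk' (fun a => saPerm a 0 (RingEquiv.refl K)) fun b c => Subtype.ext (Equiv.ext fun x => by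
    simp only [coe_mul, Equiv.Perm.mul_apply, saPerm_apply, Units.val_mul, RingEquiv.refl_apply]
    ring)

theorem scHom_apply (a : Kˣ) (x : K) : (scHom K a : Equiv.Perm K) x = a * x := add_zero _

theorem scHom_injective : Function.Injective (scHom K) := fun b c e => by
  have := congrArg (fun g : semiaffineGroup K => (g : Equiv.Perm K) 1) e
  exact Units.ext (by simpa [scHom_apply] using this)

theorem conj_trHom (g : semiaffineGroup K) {a : Kˣ} {b : K} {σ : K ≃+* K}
    (hg : ∀ x, (g : Equiv.Perm K) x = a * σ x + b) (c : Multiplicative K) :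
    g * trHom K c * g⁻¹ = trHom K (Multiplicative.ofAdd (a * σ c.toAdd)) := by
  rw [mul_inv_eq_iff_eq_mul]
  refine Subtype.ext (Equiv.ext fun x => ?_)
  simp only [coe_mul, Equiv.Perm.mul_apply, trHom_apply, hg, map_add, toAdd_ofAdd]
  ring

instance trHom_normal : (trHom K).range.Normal := ⟨by
  rintro _ ⟨c, rfl⟩ g
  obtain ⟨a, b, σ, hg⟩ := g.2
  exact ⟨_, (conj_trHom g hg c).symm⟩⟩

theorem card_trHom [Fintype K] : Nat.card (trHom K).range = Fintype.card K := by
  rw [← Nat.card_congr (MonoidHom.ofInjective trHom_injective).toEquiv, Nat.card_eq_fintype_card,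
    Fintype.card_multiplicative]

theorem elemAb_trHom (p : ℕ) [CharP K p] : IsElementaryAbelian p (trHom K).range := by
  refine ⟨inferInstance, ?_⟩
  rintro _ ⟨c, rfl⟩
  rw [← map_pow, ← ofAdd_toAdd c, ← ofAdd_nsmul, nsmul_eq_mul, CharP.cast_eq_zero, zero_mul, ofAdd_zero, map_one]

/-- The arithmetic condition for `ΓL(1, pⁿ)` to be transitive on the subgroups of order `p²`. -/
theorem num_of_tr [Fintype K] {p n : ℕ} [hp : Fact p.Prime] (hK : Fintype.card K = p ^ n) (hn : 2 ≤ n)
    (h : Tr (p ^ 2) ⊤ (trHom K).range) : n = 2 ∨ n = 3 ∨ (n = 5 ∧ p = 2) := by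
  have hc : CharP K p := charP_of_card_eq_prime_pow hK
  obtain ⟨u, hu⟩ := IsCyclic.exists_ofOrder_eq_natCard (α := (ZMod p)ˣ)
  rw [Nat.card_eq_fintype_card, ZMod.card_units] at hu
  set c := scHom K (Units.map (ZMod.castHom dvd_rfl K : ZMod p →* K) u) with hcd
  have h1 : orderOf c = p - 1 := by
    rw [hcd, orderOf_injective _ scHom_injective, ← hu]
    exact orderOf_injective (Units.map (ZMod.castHom dvd_rfl K : ZMod p →* K))
      (Units.map_injective (ZMod.castHom_injective K)) u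
  have h2 := hp.out.one_lt
  have h3 : p < p ^ n := by
    calc p = p ^ 1 := (pow_one p).symm
      _ < p ^ n := Nat.pow_lt_pow_right h2 hn
  have h4 := h.dvd (D := (trHom K).range ⊔ zpowers c) (elemAb_trHom p) (by rw [normalizer_eq_top])
    (by rw [card_trHom, hK]; exact h3) fun V hV => by
      refine sup_le (le_trans (fun x hx => mem_centralizer_iff.2 fun y hy => ?_)
        (le_normalizer_of_comm (elemAb_trHom p).1 hV)) (zpowers_le.2 (mem_normalizer_of_cj_le
          (cj_le_iff_forall.2 fun x hx => ?_)))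
      · exact congrArg Subtype.val (mul_comm' (⟨y, hy⟩ : (trHom K).range) ⟨x, hx⟩)
      · obtain ⟨b, rfl⟩ := hV hx
        rw [conj_trHom c (σ := RingEquiv.refl K) (b := 0) (fun _ => rfl)]
        have : Multiplicative.ofAdd (((Units.map (ZMod.castHom dvd_rfl K : ZMod p →* K) u : Kˣ) : K) *
            RingEquiv.refl K b.toAdd) = b ^ (u : ZMod p).val := by
          rw [← ofAdd_toAdd b, ← ofAdd_nsmul, nsmul_eq_mul]
          simp
        rw [this, map_pow]
        exact pow_mem hx _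
  rw [relIndex_top_right, card_trHom, hK] at h4
  have h5 : p ^ n * (p - 1) ∣ Nat.card ((trHom K).range ⊔ zpowers c : Subgroup _) :=
    Nat.Coprime.mul_dvd_of_dvd_of_dvd (Nat.Coprime.pow_left _ ((Nat.coprime_self_sub_right h2.le).2 (by simp)))
      (hK ▸ card_trHom (K := K) ▸ card_dvd_of_le le_sup_left)
      (h1 ▸ Nat.card_zpowers c ▸ card_dvd_of_le le_sup_right)
  have h6 := ((trHom K).range ⊔ zpowers c).card_mul_index
  rw [card_semiaffine, FieldAut.card_ringAut hK, hK] at h6
  obtain ⟨k, hk⟩ := h5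
  set i := ((trHom K).range ⊔ zpowers c).index
  have h7 : (p - 1) * k * i = (p ^ n - 1) * n := by
    refine Nat.eq_of_mul_eq_mul_left (show 0 < p ^ n by omega) ?_
    rw [hk] at h6
    linarith
  refine num_aff hp.out hn ?_
  have h8 : p ^ n - p = p * (p ^ (n - 1) - 1) := by
    rw [Nat.mul_sub, ← pow_succ', mul_one, Nat.sub_add_cancel (by omega)]
  have h9 : p ^ 2 - p = p * (p - 1) := by rw [Nat.mul_sub, mul_one, sq]
  have h10 := h4.mul_right k
  rw [h8, h9, show i * ((p ^ 2 - 1) * (p * (p - 1))) * k = (p - 1) * k * i * (p * (p ^ 2 - 1)) by ring, h7,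
    mul_assoc, Nat.mul_dvd_mul_iff_left (by omega), mul_left_comm, Nat.mul_dvd_mul_iff_left (by omega)] at h10
  exact h10

end Semi

variable {H : Type*} [Group H] [Finite H] {p : ℕ}

theorem le_normalizer_of_normal' (P : Subgroup H) [P.Normal] (h : H) : h ∈ normalizer (P : Set H) := by
  rw [normalizer_eq_top]; trivial

theorem exists_embedding {P : Subgroup H} [hN : P.Normal] (hP : IsElementaryAbelian p P)
    (hcop : (Nat.card P).Coprime P.index) (hC : centralizer (P : Set H) ≤ P) {K : Type*} [Field K]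
    (e : Abelem.V hP ≃+ K) (he : ∀ h : H, ∃ (a : K) (σ : K ≃+* K), ∀ v,
      e (Abelem.conjLin hP h (le_normalizer_of_normal' P h) v) = a * σ (e v)) :
    ∃ φ : H →* semiaffineGroup K, Function.Injective φ ∧ P.map φ = (trHom K).range := by
  obtain ⟨L, hL⟩ := exists_right_complement'_of_coprime hcop
  have hb : Function.Bijective fun v : Abelem.V hP => (v.val : H ⧸ L) := by
    refine ⟨fun v w h => Abelem.V.ext ?_, fun x => ?_⟩
    · have h1 : v.val⁻¹ * w.val ∈ P ⊓ L := mem_inf.2 ⟨mul_mem (inv_mem v.2) w.2, QuotientGroup.eq.1 h⟩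
      rw [hL.disjoint.eq_bot, mem_bot, inv_mul_eq_one] at h1
      exact h1
    · obtain ⟨x, rfl⟩ := QuotientGroup.mk_surjective x
      obtain ⟨⟨s, l⟩, rfl⟩ := hL.2 x
      exact ⟨⟨s, s.2⟩, QuotientGroup.eq.2 (by simp)⟩
  set ε := Equiv.ofBijective _ hb
  set φ₀ : H →* Equiv.Perm K := (ε.symm.trans e.toEquiv).permCongrHom.toMonoidHom.comp (MulAction.toPermHom H (H ⧸ L))
  have key : ∀ (s : P) (l : L) (v : Abelem.V hP), φ₀ (s * l) (e v) =
      e (Abelem.conjLin hP (s * l) (le_normalizer_of_normal' P _) v) + e ⟨s, s.2⟩ := fun s l v => by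
    change e (ε.symm (((s : H) * l) • ε (e.symm (e v)))) = _
    rw [← map_add, AddEquiv.symm_apply_apply]
    congr 1
    rw [Equiv.symm_apply_eq]
    change (((s : H) * l * v.val : H) : H ⧸ L) = ((s : H) * l * v.val * ((s : H) * l)⁻¹ * s : H)
    exact QuotientGroup.eq.2 (by simp [mul_assoc])
  have hm : ∀ h, φ₀ h ∈ semiaffineGroup K := fun h => by
    obtain ⟨a, σ, ha⟩ := he h
    obtain ⟨⟨s, l⟩, rfl⟩ := hL.2 h
    have ha0 : a ≠ 0 := by
      rintro rfl
      have h1 := ha (e.symm 1)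
      rw [zero_mul, map_eq_zero_iff _ e.injective, ← Abelem.V.val_eq_one_iff, Abelem.val_conjLin,
        conj_eq_one_iff, Abelem.V.val_eq_one_iff, map_eq_zero_iff _ e.symm.injective] at h1
      exact one_ne_zero h1
    refine ⟨Units.mk0 a ha0, e ⟨s, s.2⟩, σ, fun x => ?_⟩
    obtain ⟨v, rfl⟩ := e.surjective x
    exact (key s l v).trans (by rw [ha]; rfl)
  have hP' : ∀ (s : H) (hs : s ∈ P), φ₀.codRestrict _ hm s = trHom K (Multiplicative.ofAdd (e ⟨s, hs⟩)) :=
    fun s hs => Subtype.ext (Equiv.ext fun x => by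
      obtain ⟨v, rfl⟩ := e.surjective x
      have h1 := key ⟨s, hs⟩ 1 v
      simp only [OneMemClass.coe_one, mul_one] at h1
      rw [trHom_apply]
      refine h1.trans ?_
      congr 2
      refine Abelem.V.ext ?_
      rw [Abelem.val_conjLin, Abelem.comm_of_mem hP hs v.2, mul_inv_cancel_right])
  refine ⟨φ₀.codRestrict _ hm, (injective_iff_map_eq_one _).2 fun h h1 => ?_, le_antisymm ?_ ?_⟩
  · obtain ⟨⟨s, l⟩, rfl⟩ := hL.2 h
    have h2 : ∀ v, e v = e (Abelem.conjLin hP (s * l) (le_normalizer_of_normal' P _) v) + e ⟨s, s.2⟩ :=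
      fun v => by rw [← key]; exact (congrArg (fun g : semiaffineGroup K => (g : Equiv.Perm K) (e v)) h1).symm
    have h3 := h2 0
    rw [map_zero, map_zero, map_zero, zero_add] at h3
    have h4 : (s : H) = 1 := Abelem.V.val_eq_one_iff.2 ((map_eq_zero_iff _ e.injective).1 h3.symm)
    have h5 : (l : H) ∈ P ⊓ L := ⟨hC (mem_centralizer_iff.2 fun y hy => by
      have h6 := h2 ⟨y, hy⟩
      rw [← h3, add_zero, e.apply_eq_iff_eq] at h6
      have h7 := congrArg Abelem.V.val h6
      rw [Abelem.val_conjLin, h4, one_mul, eq_mul_inv_iff_mul_eq] at h7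
      exact h7), l.2⟩
    rw [hL.disjoint.eq_bot, mem_bot] at h5
    change (s : H) * l = 1
    rw [h4, h5, mul_one]
  · rintro _ ⟨s, hs, rfl⟩
    exact ⟨_, (hP' s hs).symm⟩
  · rintro _ ⟨b, rfl⟩
    refine ⟨(e.symm b.toAdd).val, (e.symm b.toAdd).2, ?_⟩
    rw [hP' _ (e.symm b.toAdd).2]
    change trHom K (Multiplicative.ofAdd (e (e.symm b.toAdd))) = _
    simp

theorem exists_semilinear [hp : Fact p.Prime] [Group.IsSolvable H] {P : Subgroup H} [hN : P.Normal]
    (hP : IsElementaryAbelian p P) (hne : P ≠ ⊥) (htr : Tr p ⊤ P)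
    (hex : Nat.card P ∉ ({9, 25, 49, 121, 529, 81} : Set ℕ)) {K : Type*} [Field K] [Fintype K]
    (hK : Fintype.card K = Nat.card P) :
    ∃ e : Abelem.V hP ≃+ K, ∀ h : H, ∃ (a : K) (σ : K ≃+* K), ∀ v,
      e (Abelem.conjLin hP h (le_normalizer_of_normal' P h) v) = a * σ (e v) := by
  have := Abelem.nontrivial_V_iff (hE := hP).2 hne
  have hA : (⊤ : Subgroup H) ≤ normalizer (P : Set H) := fun h _ => le_normalizer_of_normal' P h
  let ψ₀ : (⊤ : Subgroup H) × (ZMod p)ˣ →* Module.End (ZMod p) (Abelem.V hP) :=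
    { toFun := fun z => (z.2 : ZMod p) • Abelem.rep hP hA z.1
      map_one' := by simp
      map_mul' := fun z w => by
        simp only [Prod.fst_mul, Prod.snd_mul, Units.val_mul, map_mul, smul_mul_smul_comm] }
  let ψ := (LinearMap.GeneralLinearGroup.generalLinearEquiv (ZMod p) (Abelem.V hP)).toMonoidHom.comp ψ₀.toHomUnits
  have hψ : ∀ z v, ψ z v = (z.2 : ZMod p) • Abelem.rep hP hA z.1 v := fun z v => rfl
  have : Finite ψ.range := Finite.of_surjective _ ψ.rangeRestrict_surjective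
  rcases Cfsg.Agent.S3360.result p (Group.isSolvable_of_surjective ψ.rangeRestrict_surjective) ψ.range.subtype
    ψ.range.subtype_injective (fun v w hv hw => by
      have ho : ∀ v : Abelem.V hP, v ≠ 0 → Nat.card (zpowers v.val) = p := fun v hv => by
        rw [Nat.card_zpowers, orderOf_eq_prime (hP.2 _ v.2) (Abelem.V.val_eq_one_iff.not.2 hv)]
      obtain ⟨g, -, hg⟩ := htr _ _ (zpowers_le.2 v.2) (zpowers_le.2 w.2) (ho v hv) (ho w hw)
      rw [cj_zpowers] at hg
      obtain ⟨k, hk⟩ := (mem_powers_iff_mem_zpowers.2 (hg ▸ mem_zpowers w.val))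
      have h1 : (k : ZMod p) • Abelem.rep hP hA ⟨g, trivial⟩ v = w := Abelem.V.ext (by
        rw [Abelem.V.val_natCast_smul, Abelem.val_rep]; exact hk)
      have h2 : (k : ZMod p) ≠ 0 := fun e => hw (by rw [← h1, e, zero_smul])
      exact ⟨⟨_, (⟨g, trivial⟩, Units.mk0 _ h2), rfl⟩, h1⟩) with ⟨F, _, _, e, he⟩ | h
  · have hF : Fintype.card F = Fintype.card K := by
      rw [hK, ← Abelem.card_V (hE := hP), Nat.card_congr e.toEquiv, Nat.card_eq_fintype_card]
    let ι := FiniteField.ringEquivOfCardEq hF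
    refine ⟨e.trans ι.toAddEquiv, fun h => ?_⟩
    obtain ⟨a, σ, ha⟩ := he ⟨_, (⟨h, trivial⟩, 1), rfl⟩
    refine ⟨ι a, (ι.symm.trans σ).trans ι, fun v => ?_⟩
    have h1 := ha v
    rw [coe_subtype, hψ, Units.val_one, one_smul] at h1
    change ι (e (Abelem.rep hP hA ⟨h, trivial⟩ v)) = ι a * ι (σ (ι.symm (ι (e v))))
    rw [h1, map_mul, RingEquiv.symm_apply_apply]
  · rw [Abelem.card_V] at h
    exact absurd h hex

end CL.EqOrd
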