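import Cfsg.Agent.INV.EqOrd.Aff
import Cfsg.Agent.INV.ElemAbGL
import Cfsg.Agent.INV.JR.Count
import Cfsg.Agent.SOLV.Hall
import Cfsg.Agent.SOLV.Fitting

/-!
# Solvable groups transitive on the points and lines of a normal elementary abelian Sylow subgroup
-/

set_option autoImplicit false

namespace CL.EqOrd

open Cfsg Subgroup CL.MSS

variable {G : Type*} [Group G] {p : ℕ}

theorem card_map_of_inf_ker {H : Type*} [Group H] (f : G →* H) {R : Subgroup G} (h : R ⊓ f.ker = ⊥) :
    Nat.card (R.map f) = Nat.card R := by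
  rw [← card_map_mul_card_inf_ker R f, h, card_bot, mul_one]

theorem Tr.map_of_ker {m : ℕ} {N P : Subgroup G} (h : Tr m N P) {H : Type*} [Group H] {f : G →* H}
    (hf : P ⊓ f.ker = ⊥) : Tr m (N.map f) (P.map f) := fun V W hV hW e e' => by
  have h1 : ∀ V : Subgroup H, V ≤ P.map f → (P ⊓ V.comap f).map f = V := fun V hV =>
    le_antisymm (map_le_iff_le_comap.2 inf_le_right) fun x hx => by
      obtain ⟨y, hy, rfl⟩ := hV hx
      exact ⟨y, ⟨hy, hx⟩, rfl⟩
  have h2 : ∀ V : Subgroup H, V ≤ P.map f → Nat.card (P ⊓ V.comap f : Subgroup G) = Nat.card V := fun V hV => by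
    rw [← card_map_of_inf_ker f (le_bot_iff.1 (hf ▸ inf_le_inf_right _ inf_le_left)), h1 V hV]
  obtain ⟨g, hg, hg'⟩ := h _ _ inf_le_left inf_le_left ((h2 V hV).trans e) ((h2 W hW).trans e')
  exact ⟨f g, mem_map_of_mem f hg, by rw [← h1 W hW, hg', map_cj, h1 V hV]⟩

theorem Tr.subgroupOf {m : ℕ} {N P : Subgroup G} (h : Tr m N P) : Tr m ⊤ (P.subgroupOf N) :=
  fun V W hV hW e e' => by
    obtain ⟨g, hg, hg'⟩ := h (V.map N.subtype) (W.map N.subtype) (map_le_iff_le_comap.2 hV)
      (map_le_iff_le_comap.2 hW) (by rw [card_map_of_injective N.subtype_injective, e])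
      (by rw [card_map_of_injective N.subtype_injective, e'])
    exact ⟨⟨g, hg⟩, trivial, map_injective N.subtype_injective (by rw [subtype_map_cj, hg'])⟩

theorem elemAb_map {P : Subgroup G} (hP : IsElementaryAbelian p P) {H : Type*} [Group H] (f : G →* H) :
    IsElementaryAbelian p (P.map f) := by
  refine ⟨?_, ?_⟩
  · have := hP.1
    infer_instance
  · rintro _ ⟨a, ha, rfl⟩
    rw [← map_pow, hP.2 a ha, map_one]

theorem elemAb_subgroupOf {P : Subgroup G} (hP : IsElementaryAbelian p P) (N : Subgroup G) :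
    IsElementaryAbelian p (P.subgroupOf N) := by
  refine ⟨?_, fun a ha => Subtype.ext (hP.2 _ ha)⟩
  have := hP.1
  infer_instance

theorem le_normalizer_of_le {P V : Subgroup G} (hP : IsMulCommutative P) (hV : V ≤ P) :
    P ≤ normalizer (V : Set G) :=
  le_trans (fun x hx => mem_centralizer_iff.2 fun y hy =>
    congrArg Subtype.val (mul_comm' (⟨y, hy⟩ : P) ⟨x, hx⟩)) (le_normalizer_of_comm hP hV)

theorem exists_commute_65 [Finite G] (h : Nat.card G = 65) :
    ∃ x y : G, orderOf x = 13 ∧ orderOf y = 5 ∧ Commute x y := by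
  have := Fact.mk (show Nat.Prime 13 by norm_num)
  have := Fact.mk Nat.prime_five
  obtain ⟨x, hx⟩ := exists_prime_orderOf_dvd_card' (G := G) 13 (by rw [h]; norm_num)
  obtain ⟨y, hy⟩ := exists_prime_orderOf_dvd_card' (G := G) 5 (by rw [h]; norm_num)
  have h1 := (zpowers x).card_mul_index
  rw [Nat.card_zpowers, hx, h] at h1
  have : (zpowers x).Normal := normal_of_index_eq_minFac_card (by rw [h]; norm_num; omega)
  have h2 : orderOf (MulAut.conjNormal (H := zpowers x) y) ∣ 5 := hy ▸ orderOf_map_dvd _ _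
  have h3 := orderOf_dvd_natCard (MulAut.conjNormal (H := zpowers x) y)
  rw [IsCyclic.card_mulAut, Nat.card_zpowers, hx, Nat.totient_prime (by norm_num)] at h3
  have h4 := orderOf_eq_one_iff.1 (Nat.eq_one_of_dvd_coprimes (by norm_num) h2 h3)
  have h5 := congrArg (fun φ : MulAut (zpowers x) => (φ ⟨x, mem_zpowers x⟩ : G)) h4
  refine ⟨x, y, hx, hy, ?_⟩
  change y * x * y⁻¹ = x at h5
  rw [mul_inv_eq_iff_eq_mul] at h5
  exact h5.symm

theorem card_fix_modEq [Finite G] {r : ℕ} [Fact r.Prime] {y : G} (hy : orderOf y = r) {S : Subgroup G}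
    (h : y ∈ normalizer (S : Set G)) :
    Nat.card S ≡ Nat.card (S ⊓ centralizer {y} : Subgroup G) [MOD r] := by
  have := JR.ncard_modEq_commute (p := r) (k := 1) (d := y) (by rw [pow_one, ← hy, pow_orderOf_eq_one])
    (S := S) fun x hx => conj_mem_of_normalizes le_rfl h hx
  rw [show {x | x ∈ (S : Set G) ∧ Commute y x} = (S ⊓ centralizer {y} : Subgroup G) from Set.ext fun x =>
    and_congr_right fun _ => ⟨fun e => mem_centralizer_singleton_iff.2 e.eq.symm,
      fun e => (mem_centralizer_singleton_iff.1 e).symm⟩] at this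
  exact this

theorem not_tr_81 [Finite G] [Group.IsSolvable G] {P : Subgroup G} [P.Normal] (hP : IsElementaryAbelian 3 P)
    (hC : centralizer (P : Set G) ≤ P) (hc : Nat.card P = 81) (h : Tr (3 ^ 2) ⊤ P) : False := by
  have := Fact.mk (show Nat.Prime 13 by norm_num)
  have := Fact.mk Nat.prime_five
  have hn : ∀ g, g ∈ normalizer (P : Set G) := le_normalizer_of_normal' P
  have h1 := h.dvd (D := P) hP (fun g _ => hn g) (by omega) fun V hV => le_normalizer_of_le hP.1 hV
  rw [hc, relIndex_top_right] at h1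
  have h2 : 65 ∣ Nat.card G := (show 65 ∣ P.index by omega).trans P.index_dvd_card
  have hPc : P = centralizer (P : Set G) := le_antisymm (fun x hx => mem_centralizer_iff.2 fun y hy => by
    have := hP.1
    exact congrArg Subtype.val (mul_comm' (⟨y, hy⟩ : P) ⟨x, hx⟩)) hC
  obtain ⟨f, hf⟩ := EAGL.exists_hom_gl (V := P) (p := 3) (n := 4) hP.1.is_comm.comm
    (fun x => Subtype.ext (hP.2 _ x.2)) (by omega)
  have h3 : P.index ∣ 24261120 := by
    have h4 := card_dvd_of_injective f hf
    rw [Matrix.card_GL_field, ZMod.card] at h4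
    have h5 : (MulAut.conjNormal (H := P)).ker = P := by
      refine Eq.trans ?_ hPc.symm
      ext g
      rw [MonoidHom.mem_ker, mem_centralizer_iff]
      refine ⟨fun e y hy => ?_, fun e => MulEquiv.ext fun y => Subtype.ext ?_⟩
      · have := congrArg (fun φ : MulAut P => (φ ⟨y, hy⟩ : G)) e
        change g * y * g⁻¹ = y at this
        rw [mul_inv_eq_iff_eq_mul] at this
        exact this.symm
      · change g * y * g⁻¹ = y
        rw [← e y y.2, mul_inv_cancel_right]
    rw [← h5, index_ker]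
    exact (card_subgroup_dvd_card _).trans (h4.trans (by decide))
  obtain ⟨R, hR1, hR2⟩ := exists_isPiHall {5, 13} G
  have h4 : Nat.card R = 65 := by
    have h5 := R.card_mul_index
    have h6 : 65 ∣ Nat.card R := (Nat.Coprime.mul_left (m := 5) (n := 13)
      ((Nat.Prime.coprime_iff_not_dvd Nat.prime_five).2 (hR2 5 Nat.prime_five (by simp)))
      ((Nat.Prime.coprime_iff_not_dvd (by norm_num)).2 (hR2 13 (by norm_num) (by simp)))).dvd_of_dvd_mul_right
      (h5 ▸ h2)
    have h7 : Nat.card R ∣ 65 * (2 ^ 9 * 3 ^ 10) := by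
      refine R.card_subgroup_dvd_card.trans ?_
      rw [← P.card_mul_index, hc]
      exact (Nat.mul_dvd_mul_left _ h3).trans (by norm_num)
    refine Nat.dvd_antisymm (Nat.Coprime.dvd_of_dvd_mul_right ?_ h7) h6
    refine Nat.Coprime.mul_right (Nat.Coprime.pow_right _ ?_) (Nat.Coprime.pow_right _ ?_)
    · exact ((Nat.Prime.coprime_iff_not_dvd Nat.prime_two).2 fun e => by
        simpa using hR1 2 Nat.prime_two e).symm
    · exact ((Nat.Prime.coprime_iff_not_dvd Nat.prime_three).2 fun e => by
        simpa using hR1 3 Nat.prime_three e).symm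
  obtain ⟨x, y, hx, hy, hxy⟩ := exists_commute_65 h4
  have hx' : orderOf (x : G) = 13 := by rw [Subgroup.orderOf_coe, hx]
  have hy' : orderOf (y : G) = 5 := by rw [Subgroup.orderOf_coe, hy]
  have key : ∀ (z : G) (r : ℕ), orderOf z = r → ¬ r ∣ 81 →
      ∃ k < 4, Nat.card (P ⊓ centralizer {z} : Subgroup G) = 3 ^ k := fun z r hz hr => by
    obtain ⟨k, hk, e⟩ := (Nat.dvd_prime_pow Nat.prime_three (m := 4)).1
      ((card_dvd_of_le (inf_le_left : P ⊓ centralizer {z} ≤ P)).trans hc.dvd)
    refine ⟨k, lt_of_le_of_ne hk fun e' => hr ?_, e⟩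
    have h5 : P ⊓ centralizer {z} = P := eq_of_le_of_card_ge inf_le_left (by rw [e, e', hc]; rfl)
    have h6 : z ∈ P := hC (mem_centralizer_iff.2 fun w hw =>
      mem_centralizer_singleton_iff.1 (inf_eq_left.1 h5 hw))
    rw [← hz, ← hc]
    exact P.orderOf_dvd_natCard h6
  obtain ⟨k, hk, ek⟩ := key x 13 hx' (by norm_num)
  obtain ⟨l, hl, el⟩ := key y 5 hy' (by norm_num)
  have h5 := card_fix_modEq hx' (hn x)
  have h6 := card_fix_modEq hy' (hn y)
  rw [hc, ek] at h5
  rw [hc, el] at h6
  obtain rfl : k = 1 := by interval_cases k <;> first | rfl | exact absurd h5 (by decide)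
  obtain rfl : l = 0 := by interval_cases l <;> first | rfl | exact absurd h6 (by decide)
  have h7 := card_fix_modEq hy' (S := P ⊓ centralizer {(x : G)}) (MSS.le_normalizer_inf (H := zpowers (y : G))
    (fun g _ => hn g) ((zpowers_le.2 (mem_centralizer_singleton_iff.2
      (congrArg Subtype.val hxy.eq).symm)).trans le_normalizer) (mem_zpowers _))
  have h8 : P ⊓ centralizer {(x : G)} ⊓ centralizer {(y : G)} = ⊥ :=
    le_bot_iff.1 ((card_eq_one.1 el) ▸ inf_le_inf_right _ inf_le_left)
  rw [h8, ek, card_bot] at h7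
  exact absurd h7 (by decide)

theorem nonempty_equiv_of_card_le {H : Type*} [Group H] [Finite H] {f : G →* H} (hf : Function.Injective f)
    (h : Nat.card H ≤ Nat.card G) : Nonempty (G ≃* H) :=
  ⟨MulEquiv.ofBijective f (hf.bijective_of_nat_card_le h)⟩

/-- the affine case -/
theorem affine_main [Finite G] [hp : Fact p.Prime] [Group.IsSolvable G] {P : Subgroup G} [P.Normal]
    (hP : IsElementaryAbelian p P) (hcop : (Nat.card P).Coprime P.index) (hC : centralizer (P : Set G) ≤ P)
    {n : ℕ} (hn : 3 ≤ n) (hc : Nat.card P = p ^ n) (h1 : Tr p ⊤ P) (h2 : Tr (p ^ 2) ⊤ P) :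
    (n = 3 ∧ (∃ f : G →* semiaffineGroup (GaloisField p 3), Function.Injective f) ∧
      (p = 2 → Nonempty (G ≃* semiaffineGroup (GaloisField 2 3)) ∨ Nonempty (G ≃* affineGroup (GaloisField 2 3)))) ∨
    (n = 5 ∧ p = 2 ∧ Nonempty (G ≃* semiaffineGroup (GaloisField 2 5))) := by
  have h3 := hp.out.one_lt
  have h4 : p < p ^ n := by
    calc p = p ^ 1 := (pow_one p).symm
      _ < p ^ n := Nat.pow_lt_pow_right h3 (by omega)
  have := Fintype.ofFinite (GaloisField p n)
  have hK : Fintype.card (GaloisField p n) = p ^ n := by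
    rw [← Nat.card_eq_fintype_card, GaloisField.card p n (by omega)]
  have hsq : ∀ r : ℕ, r.Prime → p ^ n ≠ r ^ 2 := fun r hr e => by
    obtain rfl := (Nat.prime_dvd_prime_iff_eq hp.out hr).1
      (hp.out.dvd_of_dvd_pow (e ▸ dvd_pow_self p (by omega)))
    have := Nat.pow_right_injective h3 e
    omega
  obtain ⟨e, he⟩ := exists_semilinear hP (fun e => by rw [e, card_bot] at hc; omega) h1 (by
    rw [hc]
    simp only [Set.mem_insert_iff, Set.mem_singleton_iff, not_or]
    refine ⟨hsq 3 (by norm_num), hsq 5 (by norm_num), hsq 7 (by norm_num), hsq 11 (by norm_num),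
      hsq 23 (by norm_num), fun e => ?_⟩
    obtain rfl := (Nat.prime_dvd_prime_iff_eq hp.out Nat.prime_three).1
      (hp.out.dvd_of_dvd_pow (n := 4) (show p ∣ 81 from e ▸ dvd_pow_self p (by omega)))
    exact not_tr_81 hP hC (hc.trans e) h2) (hK.trans hc.symm)
  obtain ⟨φ, hφ, hφP⟩ := exists_embedding hP hcop hC e he
  have h5 := h2.dvd (D := P) hP (fun g _ => le_normalizer_of_normal' P g) (by omega)
    fun V hV => le_normalizer_of_le hP.1 hV
  have h6 := P.card_mul_index
  have h7 := card_semiaffine (K := GaloisField p n)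
  have h8 := card_dvd_of_injective φ hφ
  rw [relIndex_top_right, hc] at h5
  rw [FieldAut.card_ringAut hK, hK] at h7
  rw [hc] at h6
  rcases num_of_tr hK (by omega) (hφP ▸ (h2.map hφ).mono le_top) with rfl | rfl | ⟨rfl, rfl⟩
  · omega
  · refine Or.inl ⟨rfl, ⟨φ, hφ⟩, ?_⟩
    rintro rfl
    obtain ⟨k, hk⟩ : 7 ∣ P.index := by omega
    have h9 : k ∣ 3 := by
      rw [h7, ← h6, hk] at h8
      exact Nat.dvd_of_mul_dvd_mul_left (show 0 < 56 by norm_num) (by convert h8 using 1 <;> ring)
    rcases (Nat.dvd_prime Nat.prime_three).1 h9 with rfl | rfl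
    · right
      have := affine_normal (K := GaloisField 2 3)
      set A := (affineGroup (GaloisField 2 3)).subgroupOf (semiaffineGroup (GaloisField 2 3))
      have h10 : Nat.card A = 56 := by
        rw [Nat.card_congr (subgroupOfEquivOfLe affine_le).toEquiv, card_affine, hK]; rfl
      have h11 := A.card_mul_index
      rw [h10, h7] at h11
      have h12 : ∀ g, φ g ∈ A := fun g => by
        rw [← QuotientGroup.eq_one_iff, ← orderOf_eq_one_iff]
        refine Nat.eq_one_of_dvd_coprimes (a := 3) (b := 56) (by norm_num) ?_ ?_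
        · exact (_root_.orderOf_dvd_natCard _).trans (show A.index = 3 by omega).dvd
        · rw [← show Nat.card G = 56 by omega]
          exact (orderOf_map_dvd ((QuotientGroup.mk' A).comp φ) g).trans (orderOf_dvd_natCard g)
      exact nonempty_equiv_of_card_le (f := (subgroupOfEquivOfLe (affine_le (K := GaloisField 2 3))).toMonoidHom.comp
        (φ.codRestrict A h12)) ((subgroupOfEquivOfLe (affine_le (K := GaloisField 2 3))).injective.comp
          ((φ.injective_codRestrict A h12).2 hφ))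
        (by rw [card_affine, hK]; omega)
    · exact Or.inl (nonempty_equiv_of_card_le hφ (by omega))
  · refine Or.inr ⟨rfl, rfl, nonempty_equiv_of_card_le hφ ?_⟩
    have := Nat.le_of_dvd (Nat.pos_of_ne_zero P.index_ne_zero_of_finite) (show 155 ∣ P.index by omega)
    omega

end CL.EqOrd
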