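import Mathlib
import Cfsg.Agent.S0118
import Cfsg.Agent.INV.GW.CorQuat
import Cfsg.Agent.S4145
import Cfsg.Agent.PLOC.Involves
import Cfsg.Agent.PLOC.FusionControl
import Cfsg.Agent.SOLV.PGroupCyclicSCN
import Cfsg.Agent.INV.AbBase

/-!
# Groups whose (abelian) `p`-subgroups of equal order are conjugate: Sylow subgroups
-/

set_option autoImplicit false

namespace CL.EqOrd

open Cfsg Subgroup CL.MSS CL.AbS

/-- abelian `p`-subgroups of equal order are conjugate -/
def BP (p : ℕ) (G : Type*) [Group G] : Prop :=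
  ∀ A B : Subgroup G, IsPGroup p A → IsPGroup p B → IsMulCommutative A → IsMulCommutative B →
    Nat.card A = Nat.card B → ∃ g : G, B = g •ᶜ A

/-- `p`-subgroups of equal order are conjugate -/
def DP (p : ℕ) (G : Type*) [Group G] : Prop :=
  ∀ A B : Subgroup G, IsPGroup p A → IsPGroup p B → Nat.card A = Nat.card B → ∃ g : G, B = g •ᶜ A

/-- subgroups of equal order are conjugate -/
def CP (G : Type*) [Group G] : Prop :=
  ∀ A B : Subgroup G, Nat.card A = Nat.card B → ∃ g : G, B = g •ᶜ A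

variable {G : Type*} [Group G] {p : ℕ}

theorem DP.bp (h : DP p G) : BP p G := fun A B hA hB _ _ e => h A B hA hB e

theorem CP.dp (h : CP G) (p : ℕ) : DP p G := fun A B _ _ e => h A B e

theorem card_comap_eq [Finite G] {H : Type*} [Group H] {f : G →* H} (hf : Function.Surjective f)
    {A B : Subgroup H} (e : Nat.card A = Nat.card B) : Nat.card (A.comap f) = Nat.card (B.comap f) := by
  have : Finite H := Finite.of_surjective f hf
  have h1 := (A.comap f).card_mul_index
  have h2 := (B.comap f).card_mul_index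
  rw [index_comap_of_surjective _ hf] at h1 h2
  have h3 : A.index = B.index := by
    have h4 := A.card_mul_index
    have h5 := B.card_mul_index
    rw [e, ← h5] at h4
    exact Nat.eq_of_mul_eq_mul_left Nat.card_pos h4
  rw [h3, ← h2] at h1
  exact Nat.eq_of_mul_eq_mul_right (Nat.pos_of_ne_zero B.index_ne_zero_of_finite) h1

theorem CP.of_surjective [Finite G] (h : CP G) {H : Type*} [Group H] {f : G →* H}
    (hf : Function.Surjective f) : CP H := fun A B e => by
  obtain ⟨g, hg⟩ := h _ _ (card_comap_eq hf e)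
  refine ⟨f g, ?_⟩
  rw [← map_comap_eq_self_of_surjective hf B, hg, map_cj, map_comap_eq_self_of_surjective hf]

theorem DP.of_surjective [Finite G] [Fact p.Prime] (h : DP p G) {H : Type*} [Group H] {f : G →* H}
    (hf : Function.Surjective f) : DP p H := fun A B hA hB e => by
  have : Finite H := Finite.of_surjective f hf
  obtain ⟨P, hP⟩ := exists_sylIn p (A.comap f)
  obtain ⟨Q, hQ⟩ := exists_sylIn p (B.comap f)
  obtain ⟨g, hg⟩ := h P Q hP.pgroup hQ.pgroup (by
    rw [hP.card_eq_pow_factorization, hQ.card_eq_pow_factorization, card_comap_eq hf e])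
  have h1 := hP.map f
  have h2 := hQ.map f
  rw [map_comap_eq_self_of_surjective hf] at h1 h2
  refine ⟨f g, ?_⟩
  rw [← h2.eq_of_isPGroup hB, hg, map_cj, h1.eq_of_isPGroup hA]

theorem BP.exists_conj [Fact p.Prime] (h : BP p G) {x y : G} (hx : orderOf x = p) (hy : orderOf y = p) :
    ∃ g : G, zpowers y = zpowers (g * x * g⁻¹) := by
  obtain ⟨g, hg⟩ := h (zpowers x) (zpowers y)
    (isPGroup_zpowers (k := 1) (by rw [pow_one, ← hx, pow_orderOf_eq_one]))
    (isPGroup_zpowers (k := 1) (by rw [pow_one, ← hy, pow_orderOf_eq_one])) inferInstance inferInstance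
    (by rw [Nat.card_zpowers, Nat.card_zpowers, hx, hy])
  exact ⟨g, by rw [hg, cj_zpowers]⟩

theorem BP.conj_two [Finite G] (h : BP 2 G) {x y : G} (hx : orderOf x = 2) (hy : orderOf y = 2) :
    ∃ g : G, g * x * g⁻¹ = y := by
  classical
  obtain ⟨g, hg⟩ := h.exists_conj hx hy
  have h1 : g * x * g⁻¹ ∈ zpowers y := hg ▸ mem_zpowers _
  have h2 : orderOf (g * x * g⁻¹) = 2 := by rw [← hx]; exact (MulAut.conj g).orderOf_eq x
  rw [mem_zpowers_iff_mem_range_orderOf, hy, Finset.mem_image] at h1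
  obtain ⟨k, hk, e⟩ := h1
  have hk' := Finset.mem_range.1 hk
  interval_cases k
  · rw [← e] at h2; simp at h2
  · exact ⟨g, by simpa using e.symm⟩

theorem BP.mem_of_orderOf [Finite G] [hp : Fact p.Prime] (h : BP p G) {N : Subgroup G} [hN : N.Normal]
    (hd : p ∣ Nat.card N) {y : G} (hy : y ^ p = 1) : y ∈ N := by
  by_cases h1 : y = 1
  · exact h1 ▸ one_mem _
  obtain ⟨x, hx⟩ := exists_prime_orderOf_dvd_card' p hd
  obtain ⟨g, hg⟩ := h.exists_conj (x := x) (by rw [Subgroup.orderOf_coe, hx]) (orderOf_eq_prime hy h1)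
  have : zpowers y ≤ N := hg ▸ (zpowers_le.2 (hN.conj_mem _ x.2 g))
  exact this (mem_zpowers y)

/-- If there is a subgroup of type `(p, p)`, all `p`-elements have order dividing `p`. -/
theorem BP.pow_eq_one [Finite G] [hp : Fact p.Prime] (h : BP p G) {E : Subgroup G}
    (hE : IsElementaryAbelian p E) (hc : Nat.card E = p ^ 2) {x : G} {k : ℕ} (hx : x ^ p ^ k = 1) :
    x ^ p = 1 := by
  obtain ⟨j, hj, e⟩ := (Nat.dvd_prime_pow hp.out).1 (orderOf_dvd_of_pow_eq_one hx)
  by_cases h2 : j ≤ 1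
  · exact orderOf_dvd_iff_pow_eq_one.1 (e ▸ (pow_dvd_pow p h2).trans (by simp))
  exfalso
  obtain ⟨i, rfl⟩ : ∃ i, j = i + 2 := ⟨j - 2, by omega⟩
  have h3 : orderOf (x ^ p ^ i) = p ^ 2 := by
    rw [orderOf_pow_of_dvd (pow_ne_zero _ hp.out.ne_zero) (e ▸ pow_dvd_pow p (by omega)), e, pow_add,
      Nat.mul_div_cancel_left _ (pow_pos hp.out.pos _)]
  obtain ⟨g, hg⟩ := h E (zpowers (x ^ p ^ i)) (IsPGroup.of_card hc)
    (isPGroup_zpowers (k := 2) (by rw [← h3, pow_orderOf_eq_one])) hE.1 inferInstance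
    (by rw [Nat.card_zpowers, h3, hc])
  obtain ⟨y, hy, e'⟩ := mem_cj'.1 (hg ▸ mem_zpowers (x ^ p ^ i))
  have h4 : (x ^ p ^ i) ^ p = 1 := by rw [← e', conj_pow, hE.2 y hy]; simp
  have h5 := Nat.le_of_dvd hp.out.pos (h3 ▸ orderOf_dvd_of_pow_eq_one h4)
  have := hp.out.one_lt
  nlinarith

theorem elemAb_map_subtype {P : Subgroup G} {E : Subgroup P} (hE : IsElementaryAbelian p E) :
    IsElementaryAbelian p (E.map P.subtype) := by
  refine ⟨?_, ?_⟩
  · have := hE.1
    infer_instance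
  · rintro _ ⟨a, ha, rfl⟩
    exact congrArg Subtype.val (hE.2 a ha)

/-- for `p` odd a non-cyclic `p`-subgroup forces exponent `p` -/
theorem BP.pow_eq_one_of_odd [Finite G] [hp : Fact p.Prime] (h : BP p G) (hp2 : p ≠ 2) {P : Subgroup G}
    (hP : IsPGroup p P) (hc : ¬ IsCyclic P) {x : G} {k : ℕ} (hx : x ^ p ^ k = 1) : x ^ p = 1 := by
  obtain ⟨E, -, hE, hEc⟩ := PCyc.exists_normal_elemAb_of_odd hP hp2 hc
  exact h.pow_eq_one (elemAb_map_subtype hE) (by rw [card_map_of_injective P.subtype_injective, hEc]) hx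

theorem not_involves_sl2 [Finite G] [hp : Fact p.Prime] (hp2 : p ≠ 2) (hA : Ab2 G) :
    ¬ Involves (Matrix.SpecialLinearGroup (Fin 2) (ZMod p)) G := fun h => by
  obtain ⟨T⟩ : Nonempty (Sylow 2 G) := inferInstance
  obtain ⟨S⟩ : Nonempty (Sylow 2 (Matrix.SpecialLinearGroup (Fin 2) (ZMod p))) := inferInstance
  exact Sec.not_abelian_sylow_sl2 hp2 S (Sec.abelian_sylow_of_involves h (hA.isMulCommutative T.isPGroup') S)

/-- A non-cyclic Sylow `p`-subgroup (`p` odd) meeting a normal subgroup with abelian Sylow `2`-subgroups is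
elementary abelian. -/
theorem BP.elemAb [Finite G] [hp : Fact p.Prime] (h : BP p G) (hp2 : p ≠ 2) {N : Subgroup G} [hN : N.Normal]
    (hA : Ab2 N) (hd : p ∣ Nat.card N) (P : Sylow p G) (hc : ¬ IsCyclic P) :
    IsElementaryAbelian p (P : Subgroup G) ∧ (P : Subgroup G) ≤ N := by
  have h1 : ∀ x ∈ (P : Subgroup G), x ^ p = 1 := fun x hx => by
    obtain ⟨k, hk⟩ := isPGroup_iff_forall_mem.1 P.isPGroup' x hx
    exact h.pow_eq_one_of_odd hp2 P.isPGroup' hc hk
  have h2 : (P : Subgroup G) ≤ N := fun x hx => h.mem_of_orderOf hd (h1 x hx)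
  refine ⟨⟨?_, h1⟩, h2⟩
  have hS : SylIn p (P : Subgroup G) N := sylIn_sylow P h2
  set W := centerThompsonOf p (P : Subgroup G) with hW
  have hWP : W ≤ P := fun x hx => map_subtype_le _ hx.1
  have hP1 : (P : Subgroup G) ≠ ⊥ := hS.ne_bot hd
  obtain ⟨w, hw, hw1⟩ : ∃ w ∈ W, w ≠ 1 := by
    by_contra! hh
    refine FC.omegaOne_centerThompsonOf_ne_bot P.isPGroup' hP1 (eq_bot_iff.2 ?_)
    refine le_trans ?_ (show W ≤ ⊥ from fun x hx => hh x hx)
    exact (closure_le _).2 fun x hx => hx.1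
  have hW' : (centerThompsonOf p (hS.toSylow : Subgroup N)).map N.subtype = W := by
    rw [Th.map_centerThompsonOf _ N.subtype_injective, hS.map_toSylow]
  have key : (P : Subgroup G) ≤ W := fun x hx => by
    by_cases hx1 : x = 1
    · exact hx1 ▸ one_mem _
    obtain ⟨g, hg⟩ := h.exists_conj (orderOf_eq_prime (h1 w (hWP hw)) hw1) (orderOf_eq_prime (h1 x hx) hx1)
    suffices g * w * g⁻¹ ∈ W from (hg ▸ zpowers_le.2 this : zpowers x ≤ W) (mem_zpowers x)
    have h3 : g * w * g⁻¹ ∈ (P : Subgroup G) := zpowers_le.2 hx (hg ▸ mem_zpowers _)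
    obtain ⟨n, hn, y, hy, rfl⟩ := hS.frattini (x := g) (by rw [normalizer_eq_top]; trivial)
    have h4 : y * w * y⁻¹ ∈ W := conj_mem_of_normalizes ((Th.normalizer_le_normalizer_thompsonSubgroupOf _).trans
      (Th.normalizer_thompson_le_normalizer_centerThompsonOf _)) hy hw
    obtain ⟨m, hm, hm'⟩ := Cfsg.Agent.S0118.result hp2 (not_involves_sl2 hp2 hA) hS.toSylow
      {⟨y * w * y⁻¹, h2 (hWP h4)⟩} (by
        rintro _ rfl
        exact hWP h4) (⟨n, hn⟩ : N)⁻¹ (by
        rintro _ ⟨_, rfl, rfl⟩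
        change n⁻¹⁻¹ * (y * w * y⁻¹) * n⁻¹ ∈ (P : Subgroup G)
        convert h3 using 1
        group)
    have h5 := congrArg Subtype.val (hm' _ rfl)
    have h6 : (⟨y * w * y⁻¹, h2 (hWP h4)⟩ : N) ∈ centerThompsonOf p (hS.toSylow : Subgroup N) := by
      rw [← hW'] at h4
      obtain ⟨v, hv, e⟩ := h4
      rwa [← (Subtype.ext e : v = ⟨y * w * y⁻¹, _⟩)]
    have h7 := conj_mem_of_normalizes' le_rfl hm h6
    rw [← hW']
    refine ⟨_, h7, ?_⟩
    change ((m⁻¹ * _ * m : N) : G) = _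
    rw [h5]
    change n⁻¹⁻¹ * (y * w * y⁻¹) * n⁻¹ = _
    group
  have := Th.comm_centerThompsonOf (p := p) (P : Subgroup G)
  refine IsMulCommutative.of_comm fun a b => Subtype.ext ?_
  have h3 := congrArg Subtype.val (mul_comm' (⟨a, key a.2⟩ : W) ⟨b, key b.2⟩)
  exact h3

theorem BP.two_cases [Finite G] (h : BP 2 G) (S : Sylow 2 G) :
    IsCyclic S ∨ IsElementaryAbelian 2 (S : Subgroup G) ∨
      ∃ n, Nonempty ((S : Subgroup G) ≃* QuaternionGroup (2 ^ (n + 1))) := by
  rcases PCyc.isCyclic_or_elemAb_or_quaternion S.isPGroup' with h1 | ⟨E, hE, hc⟩ | ⟨-, h1⟩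
  · exact Or.inl h1
  · refine Or.inr (Or.inl ?_)
    have h2 : ∀ x ∈ (S : Subgroup G), x ^ 2 = 1 := fun x hx => by
      obtain ⟨k, hk⟩ := isPGroup_iff_forall_mem.1 S.isPGroup' x hx
      exact h.pow_eq_one (elemAb_map_subtype hE) (by rw [card_map_of_injective (subtype_injective _), hc]) hk
    refine ⟨IsMulCommutative.of_comm fun a b => Subtype.ext ?_, h2⟩
    have h3 : ∀ x ∈ (S : Subgroup G), x⁻¹ = x := fun x hx =>
      inv_eq_of_mul_eq_one_right (by rw [← sq, h2 x hx])
    have h4 := h3 _ (mul_mem a.2 b.2)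
    rw [mul_inv_rev, h3 _ a.2, h3 _ b.2] at h4
    exact h4.symm
  · exact Or.inr (Or.inr h1)

/-- the parity of the index of an element of a generalized quaternion group -/
def quatParity {m : ℕ} (hm : 2 ∣ m) : QuaternionGroup m →* Multiplicative (ZMod 2) :=
  MonoidHom.mk' (fun g => match g with
    | .a i => Multiplicative.ofAdd (ZMod.castHom (Nat.dvd_mul_right 2 m) (ZMod 2) i)
    | .xa i => Multiplicative.ofAdd (ZMod.castHom (Nat.dvd_mul_right 2 m) (ZMod 2) i)) (by
      have h0 : (m : ZMod 2) = 0 := (ZMod.natCast_eq_zero_iff m 2).2 hm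
      rintro (i | i) (j | j)
      · simp only [QuaternionGroup.a_mul_a, map_add, ofAdd_add]
      · simp only [QuaternionGroup.a_mul_xa, map_sub, CharTwo.sub_eq_add, ← ofAdd_add, add_comm]
      · simp only [QuaternionGroup.xa_mul_a, map_add, ofAdd_add]
      · simp only [QuaternionGroup.xa_mul_xa, map_sub, map_add, map_natCast, h0, zero_add,
          CharTwo.sub_eq_add, ← ofAdd_add, add_comm])

theorem DP.eq_zero_of_quaternion [Finite G] (h : DP 2 G) {S : Subgroup G} {n : ℕ}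
    (e : S ≃* QuaternionGroup (2 ^ (n + 1))) : n = 0 := by
  have hm : 2 ∣ 2 ^ (n + 1) := dvd_pow_self 2 (by omega)
  set φ := S.subtype.comp e.symm.toMonoidHom
  have hφ : Function.Injective φ := S.subtype_injective.comp e.symm.injective
  have hQ : IsPGroup 2 (QuaternionGroup (2 ^ (n + 1))) := IsPGroup.of_card (n := n + 3) (by
    rw [Nat.card_eq_fintype_card, QuaternionGroup.card]; ring)
  have hs : Function.Surjective (quatParity hm) := fun x => by
    have : x = 1 ∨ x = Multiplicative.ofAdd 1 := by revert x; decide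
    rcases this with rfl | rfl
    · exact ⟨1, map_one _⟩
    · exact ⟨.a 1, congrArg Multiplicative.ofAdd (map_one _)⟩
  have h1 := (quatParity hm).ker.card_mul_index
  rw [index_ker, MonoidHom.range_eq_top.2 hs, card_top, Nat.card_eq_fintype_card (α := QuaternionGroup _),
    QuaternionGroup.card, Nat.card_eq_fintype_card (α := Multiplicative _), Fintype.card_multiplicative,
    ZMod.card] at h1
  obtain ⟨g, hg⟩ := h ((zpowers (.a 1)).map φ) ((quatParity hm).ker.map φ) ((hQ.to_subgroup _).map φ)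
    ((hQ.to_subgroup _).map φ) (by
      rw [card_map_of_injective hφ, card_map_of_injective hφ, Nat.card_zpowers,
        QuaternionGroup.orderOf_a_one]
      omega)
  have h2 : IsMulCommutative ((quatParity hm).ker.map φ) := hg ▸ isMulCommutative_cj g inferInstance
  have h3 : (QuaternionGroup.a 2) ∈ (quatParity hm).ker := by
    change Multiplicative.ofAdd (ZMod.castHom _ (ZMod 2) 2) = 1
    rw [map_ofNat]; rfl
  have h4 : (QuaternionGroup.xa 0) ∈ (quatParity hm).ker := by
    change Multiplicative.ofAdd (ZMod.castHom _ (ZMod 2) 0) = 1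
    rw [map_zero]; rfl
  have h5 : φ (.a 2) * φ (.xa 0) = φ (.xa 0) * φ (.a 2) := congrArg Subtype.val
    (mul_comm' (⟨_, mem_map_of_mem φ h3⟩ : (quatParity hm).ker.map φ) ⟨_, mem_map_of_mem φ h4⟩)
  rw [← map_mul, ← map_mul, hφ.eq_iff, QuaternionGroup.a_mul_xa, QuaternionGroup.xa_mul_a,
    QuaternionGroup.xa.injEq] at h5
  have h6 : ((4 : ℕ) : ZMod (2 * 2 ^ (n + 1))) = 0 := by
    push_cast
    linear_combination -h5
  have h7 := Nat.le_of_dvd (by norm_num) ((ZMod.natCast_eq_zero_iff _ _).1 h6)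
  by_contra h8
  have := Nat.pow_le_pow_right (show 0 < 2 by norm_num) (show 2 ≤ n + 1 by omega)
  omega

theorem DP.two_cases [Finite G] (h : DP 2 G) (S : Sylow 2 G) :
    IsCyclic S ∨ IsElementaryAbelian 2 (S : Subgroup G) ∨ Nonempty ((S : Subgroup G) ≃* QuaternionGroup 2) := by
  rcases h.bp.two_cases S with h1 | h1 | ⟨n, ⟨e⟩⟩
  · exact Or.inl h1
  · exact Or.inr (Or.inl h1)
  · obtain rfl := h.eq_zero_of_quaternion e
    exact Or.inr (Or.inr ⟨e⟩)

theorem ab2_map_of_q8 [Finite G] (S : Sylow 2 G) (e : (S : Subgroup G) ≃* QuaternionGroup 2) {H : Type*}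
    [Group H] {f : G →* H} (hf : Function.Surjective f) (h : ∀ x ∈ (S : Subgroup G), x * x = 1 → f x = 1) :
    Ab2 H := by
  have : Finite H := Finite.of_surjective f hf
  refine ab2_of_sylow (S.mapSurjective hf) (IsMulCommutative.of_comm ?_)
  rintro ⟨_, a, ha, rfl⟩ ⟨_, b, hb, rfl⟩
  have h1 : ∀ x y : QuaternionGroup 2, x * y * x⁻¹ * y⁻¹ * (x * y * x⁻¹ * y⁻¹) = 1 := by decide
  have h2 := congrArg (fun x => ((e.symm x : (S : Subgroup G)) : G)) (h1 (e ⟨a, ha⟩) (e ⟨b, hb⟩))
  simp only [map_mul, map_inv, MulEquiv.symm_apply_apply, map_one, coe_mul, coe_inv, OneMemClass.coe_one] at h2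
  have h3 := h _ (mul_mem (mul_mem (mul_mem ha hb) (inv_mem ha)) (inv_mem hb)) h2
  simp only [map_mul, map_inv] at h3
  refine Subtype.ext ?_
  change f a * f b = f b * f a
  rw [mul_inv_eq_one, mul_inv_eq_iff_eq_mul] at h3
  exact h3

/-- Sylow subgroups for odd primes. -/
theorem elemAb_of_dp [Finite G] [hp : Fact p.Prime] (h2 : DP 2 G) (h : DP p G) (hp2 : p ≠ 2) (P : Sylow p G)
    (hc : ¬ IsCyclic P) : IsElementaryAbelian p (P : Subgroup G) := by
  have top : ∀ {H : Type _} [Group H] [Finite H], DP p H → Ab2 H → ∀ P : Sylow p H, ¬ IsCyclic P →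
      IsElementaryAbelian p (P : Subgroup H) := fun {H} _ _ h hA P hc =>
    (h.bp.elemAb hp2 (N := ⊤) (hA.subgroup _) (dvd_card_of_isPGroup_le P.isPGroup' (fun e => hc (by
      have : Subsingleton (P : Subgroup H) := e ▸ inferInstance
      exact isCyclic_of_subsingleton)) le_top) P hc).1
  obtain ⟨S⟩ : Nonempty (Sylow 2 G) := inferInstance
  rcases h2.two_cases S with h1 | h1 | ⟨⟨e⟩⟩
  · exact top h (ab2_of_sylow S h1.isMulCommutative) P hc
  · exact top h (ab2_of_sylow S h1.1) P hc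
  obtain ⟨z, hz, hz2, hu, hN⟩ := GW.quat_center S (n := 0) e
  set N := (center (G ⧸ pPrimeCore 2 G)).comap (QuotientGroup.mk' _)
  by_cases hd : p ∣ Nat.card N
  · refine (h.bp.elemAb hp2 (fun Q hQ x hx y hy => ?_) hd P hc).1
    have h3 : x * y * x⁻¹ * y⁻¹ ∈ Q ⊓ (pPrimeCore 2 G).subgroupOf N := by
      refine mem_inf.2 ⟨mul_mem (mul_mem (mul_mem hx hy) (inv_mem hx)) (inv_mem hy), ?_⟩
      change ((x * y * x⁻¹ * y⁻¹ : N) : G) ∈ pPrimeCore 2 G
      rw [← QuotientGroup.ker_mk' (pPrimeCore 2 G), MonoidHom.mem_ker]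
      simp only [coe_mul, coe_inv, map_mul, map_inv]
      rw [← mem_center_iff.1 x.2]
      group
    rw [subgroupOf, PComp.inf_eq_bot_of_isPGroup_of_coprime hQ (Nat.Coprime.of_dvd_left
      (card_comap_dvd_of_injective _ _ N.subtype_injective) (PComp.pPrimeCore_coprime 2)), mem_bot,
      mul_inv_eq_one, mul_inv_eq_iff_eq_mul] at h3
    exact h3
  have hf := QuotientGroup.mk'_surjective N
  have hA : Ab2 (G ⧸ N) := ab2_map_of_q8 S e hf fun x hx hx2 => by
    rw [← MonoidHom.mem_ker, QuotientGroup.ker_mk', hN]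
    rcases hu x hx hx2 with rfl | rfl
    · exact one_mem _
    · exact mem_sup_left (mem_zpowers _)
  have hi : Function.Injective ((QuotientGroup.mk' N).subgroupMap P) := by
    rw [← MonoidHom.ker_eq_bot_iff, ker_subgroupMap, QuotientGroup.ker_mk', subgroupOf_eq_bot]
    exact disjoint_iff.2 (eq_bot_of_isPGroup_of_not_dvd P.isPGroup'.to_inf_right inf_le_left hd)
  have h3 := top (h.of_surjective hf) hA (P.mapSurjective hf) fun hh =>
    hc (@isCyclic_of_injective _ _ _ _ hh _ hi)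
  refine ⟨IsMulCommutative.of_comm fun a b => hi ?_, fun a ha => congrArg Subtype.val (hi (a₁ := ⟨a, ha⟩ ^ p)
    (a₂ := 1) ?_)⟩
  · have := h3.1
    rw [map_mul, map_mul]
    exact mul_comm' (M := (P.mapSurjective hf : Subgroup (G ⧸ N))) _ _
  · rw [map_pow, map_one]
    exact Subtype.ext (h3.2 _ (mem_map_of_mem _ ha))

end CL.EqOrd
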