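import Cfsg.Agent.INV.EqOrd.Basic
import Cfsg.Agent.INV.JR.Loc

/-!
# Counting the subgroups of order `p²` of an elementary abelian group
-/

set_option autoImplicit false

namespace CL.EqOrd

open Cfsg Subgroup CL.MSS

variable {G : Type*} [Group G] {p : ℕ}

/-- `N` permutes the subgroups of order `m` of `P` transitively -/
def Tr (m : ℕ) (N P : Subgroup G) : Prop :=
  ∀ V W : Subgroup G, V ≤ P → W ≤ P → Nat.card V = m → Nat.card W = m → ∃ g ∈ N, W = g •ᶜ V

theorem Tr.mono {m : ℕ} {N N' P : Subgroup G} (h : Tr m N P) (hN : N ≤ N') : Tr m N' P :=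
  fun V W hV hW e e' => (h V W hV hW e e').imp fun _ hg => ⟨hN hg.1, hg.2⟩

theorem Tr.map {m : ℕ} {N P : Subgroup G} (h : Tr m N P) {H : Type*} [Group H] {f : G →* H}
    (hf : Function.Injective f) : Tr m (N.map f) (P.map f) := fun V W hV hW e e' => by
  have hV' := map_comap_eq_self (hV.trans (map_le_range f P))
  have hW' := map_comap_eq_self (hW.trans (map_le_range f P))
  obtain ⟨g, hg, hg'⟩ := h (V.comap f) (W.comap f) ((comap_mono hV).trans (comap_map_eq_self_of_injective hf P).le)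
    ((comap_mono hW).trans (comap_map_eq_self_of_injective hf P).le)
    (by rw [← card_map_of_injective hf, hV', e]) (by rw [← card_map_of_injective hf, hW', e'])
  exact ⟨f g, mem_map_of_mem f hg, by rw [← hW', hg', map_cj, hV']⟩

/-- Burnside's fusion argument for subgroups of an abelian Sylow subgroup. -/
theorem exists_normalizer_conj [Finite G] [Fact p.Prime] (P : Sylow p G) (hP : IsMulCommutative P)
    {V : Subgroup G} (hV : V ≤ P) {g : G} (hW : g •ᶜ V ≤ P) :
    ∃ n ∈ normalizer ((P : Subgroup G) : Set G), ∀ v ∈ V, n * v * n⁻¹ = g * v * g⁻¹ := by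
  have hc : ∀ W : Subgroup G, W ≤ P → (P : Subgroup G) ≤ centralizer (W : Set G) := fun W hW x hx =>
    mem_centralizer_iff.2 fun y hy => congrArg Subtype.val (mul_comm' (⟨y, hW hy⟩ : (P : Subgroup G)) ⟨x, hx⟩)
  have h1 := (sylIn_sylow P (hc V hV)).cj g
  rw [cj_centralizer] at h1
  obtain ⟨x, hx, e⟩ := h1.exists_conj (sylIn_sylow P (hc _ hW))
  refine ⟨x * g, mem_normalizer_iff_cj.2 (by rw [cj_mul, e]), fun v hv => ?_⟩
  have := mem_centralizer_iff.1 hx _ (conj_mem_cj (g := g) hv)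
  calc x * g * v * (x * g)⁻¹ = x * (g * v * g⁻¹) * x⁻¹ := by group
    _ = _ := by rw [← this]; group

theorem BP.tr [Finite G] [Fact p.Prime] (h : BP p G) (P : Sylow p G) (hP : IsMulCommutative P) (m : ℕ) :
    Tr m (normalizer ((P : Subgroup G) : Set G)) P := fun V W hV hW e e' => by
  have hc : ∀ W : Subgroup G, W ≤ P → IsMulCommutative W := fun W hW => IsMulCommutative.of_comm fun a b =>
    Subtype.ext (by
      have := congrArg Subtype.val (mul_comm' (⟨a, hW a.2⟩ : (P : Subgroup G)) ⟨b, hW b.2⟩)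
      exact this)
  obtain ⟨g, rfl⟩ := h V W (P.isPGroup'.to_le hV) (P.isPGroup'.to_le hW) (hc V hV) (hc W hW) (e.trans e'.symm)
  obtain ⟨n, hn, hn'⟩ := exists_normalizer_conj P hP hV hW
  refine ⟨n, hn, le_antisymm (cj_le_iff_forall.2 fun v hv => ?_) (cj_le_iff_forall.2 fun v hv => ?_)⟩
  · rw [← hn' v hv]; exact conj_mem_cj hv
  · rw [hn' v hv]; exact conj_mem_cj hv

theorem relIndex_normalizer_eq (A B : Subgroup G) :
    (normalizer (B : Set G)).relIndex A = Set.ncard {C : Subgroup G | ∃ g ∈ A, C = g •ᶜ B} := by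
  let _ : MulAction A (Subgroup G) :=
    { smul := fun g C => (g : G) •ᶜ C
      one_smul := fun C => cj_one C
      mul_smul := fun g h C => cj_mul _ _ C }
  have h1 : (normalizer (B : Set G)).subgroupOf A = MulAction.stabilizer A B := by
    ext r
    rw [mem_subgroupOf, MulAction.mem_stabilizer_iff]
    exact mem_normalizer_iff_cj
  rw [relIndex, h1, MulAction.index_stabilizer]
  congr 1
  ext y
  constructor
  · rintro ⟨r, rfl⟩
    exact ⟨r, r.2, rfl⟩
  · rintro ⟨r, hr, rfl⟩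
    exact ⟨⟨r, hr⟩, rfl⟩

theorem Tr.ncard_eq {m : ℕ} {N P V : Subgroup G} (h : Tr m N P) (hN : N ≤ normalizer (P : Set G))
    (hV : V ≤ P) (e : Nat.card V = m) :
    {W : Subgroup G | W ≤ P ∧ Nat.card W = m}.ncard = (normalizer (V : Set G)).relIndex N := by
  rw [relIndex_normalizer_eq]
  congr 1
  ext W
  constructor
  · rintro ⟨h1, h2⟩
    exact h V W hV h1 e h2
  · rintro ⟨g, hg, rfl⟩
    exact ⟨cj_le_of_mem_normalizer hV (hN hg), by rw [card_cj, e]⟩

open Classical in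
/-- ordered pairs of independent elements -/
noncomputable def prs [Fintype G] (W : Subgroup G) : Finset (G × G) :=
  Finset.univ.filter fun z => z.1 ∈ W ∧ z.1 ≠ 1 ∧ z.2 ∈ W ∧ z.2 ∉ zpowers z.1

theorem mem_prs [Fintype G] {W : Subgroup G} {z : G × G} :
    z ∈ prs W ↔ z.1 ∈ W ∧ z.1 ≠ 1 ∧ z.2 ∈ W ∧ z.2 ∉ zpowers z.1 := by simp [prs]

open Classical in
theorem card_filter_mem [Fintype G] (W : Subgroup G) : (Finset.univ.filter (· ∈ W)).card = Nat.card W := by
  rw [Nat.card_eq_fintype_card, Fintype.card_subtype]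

theorem card_prs [Fintype G] [hp : Fact p.Prime] {W : Subgroup G} (hW : ∀ x ∈ W, x ^ p = 1) :
    (prs W).card = (Nat.card W - 1) * (Nat.card W - p) := by
  classical
  rw [Finset.card_eq_sum_card_fiberwise (f := Prod.fst) (t := (Finset.univ.filter (· ∈ W)).erase 1)
    (fun z hz => by
      have := mem_prs.1 hz
      simp [this.1, this.2.1])]
  rw [Finset.sum_const_nat (m := Nat.card W - p), Finset.card_erase_of_mem (by simp), card_filter_mem]
  intro x hx
  simp only [Finset.mem_erase, Finset.mem_filter, Finset.mem_univ, true_and] at hx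
  have h1 : Nat.card (zpowers x) = p := by rw [Nat.card_zpowers, orderOf_eq_prime (hW x hx.2) hx.1]
  rw [← h1, ← card_filter_mem, ← card_filter_mem, ← Finset.card_sdiff_of_subset (fun y hy => by
    simp only [Finset.mem_filter, Finset.mem_univ, true_and] at hy ⊢
    exact zpowers_le.2 hx.2 hy)]
  refine Finset.card_bij (fun z _ => z.2) (fun z hz => ?_) (fun z hz w hw e => ?_) fun y hy => ?_
  · obtain ⟨h2, rfl⟩ := Finset.mem_filter.1 hz
    have := mem_prs.1 h2
    simp [this.2.2.1, this.2.2.2]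
  · exact Prod.ext ((Finset.mem_filter.1 hz).2.trans (Finset.mem_filter.1 hw).2.symm) e
  · simp only [Finset.mem_sdiff, Finset.mem_filter, Finset.mem_univ, true_and] at hy
    exact ⟨(x, y), Finset.mem_filter.2 ⟨mem_prs.2 ⟨hx.2, hx.1, hy.1, hy.2⟩, rfl⟩, rfl⟩

theorem ncard_sq_mul [Finite G] [hp : Fact p.Prime] {P : Subgroup G} (hP : IsElementaryAbelian p P) :
    {W : Subgroup G | W ≤ P ∧ Nat.card W = p ^ 2}.ncard * ((p ^ 2 - 1) * (p ^ 2 - p)) =
      (Nat.card P - 1) * (Nat.card P - p) := by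
  classical
  have := Fintype.ofFinite G
  have hc : ∀ z ∈ prs P, Nat.card (zpowers z.1 ⊔ zpowers z.2 : Subgroup G) = p ^ 2 := fun z hz => by
    obtain ⟨h1, h2, h3, h4⟩ := mem_prs.1 hz
    have := hP.1
    rw [sq]
    exact JR.card_sup_zpowers hp.out (congrArg Subtype.val (mul_comm' (⟨_, h1⟩ : P) ⟨_, h3⟩))
      (orderOf_eq_prime (hP.2 _ h1) h2) (orderOf_eq_prime (hP.2 _ h3) fun e => h4 (e ▸ one_mem _)) h4
  rw [← card_prs hP.2, Set.ncard_eq_toFinset_card _ (Set.toFinite _),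
    Finset.card_eq_sum_card_fiberwise (f := fun z : G × G => zpowers z.1 ⊔ zpowers z.2)
    (t := (Set.toFinite {W : Subgroup G | W ≤ P ∧ Nat.card W = p ^ 2}).toFinset) (fun z hz => by
      obtain ⟨h1, -, h3, -⟩ := mem_prs.1 hz
      exact (Set.Finite.mem_toFinset _).2 ⟨sup_le (zpowers_le.2 h1) (zpowers_le.2 h3), hc z hz⟩)]
  refine (Finset.sum_const_nat fun W hW => ?_).symm
  obtain ⟨h1, h2⟩ := (Set.Finite.mem_toFinset _).1 hW
  rw [← h2, ← card_prs fun x hx => hP.2 x (h1 hx)]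
  congr 1
  ext z
  rw [Finset.mem_filter]
  constructor
  · rintro ⟨h3, rfl⟩
    obtain ⟨-, h5, -, h6⟩ := mem_prs.1 h3
    exact mem_prs.2 ⟨mem_sup_left (mem_zpowers _), h5, mem_sup_right (mem_zpowers _), h6⟩
  · intro h3
    obtain ⟨h4, h5, h6, h7⟩ := mem_prs.1 h3
    have h8 := mem_prs.2 ⟨h1 h4, h5, h1 h6, h7⟩
    exact ⟨h8, eq_of_le_of_card_ge (sup_le (zpowers_le.2 h4) (zpowers_le.2 h6)) (by rw [h2, hc z h8])⟩

/-- The counting condition. -/
theorem Tr.dvd [Finite G] [hp : Fact p.Prime] {N P D : Subgroup G} (h : Tr (p ^ 2) N P)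
    (hP : IsElementaryAbelian p P) (hN : N ≤ normalizer (P : Set G)) (hq : p < Nat.card P)
    (hD : ∀ V ≤ P, D ≤ normalizer (V : Set G)) :
    (Nat.card P - 1) * (Nat.card P - p) ∣ D.relIndex N * ((p ^ 2 - 1) * (p ^ 2 - p)) := by
  have h1 := ncard_sq_mul hP
  have := hp.out.one_lt
  obtain ⟨V, hV, e⟩ : {W : Subgroup G | W ≤ P ∧ Nat.card W = p ^ 2}.Nonempty := by
    refine Set.nonempty_of_ncard_ne_zero fun e => ?_
    rw [e, zero_mul] at h1
    rcases Nat.mul_eq_zero.1 h1.symm with h2 | h2 <;> omega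
  rw [← h1, h.ncard_eq hN hV e]
  exact Nat.mul_dvd_mul_right (relIndex_dvd_of_le_left _ (hD V hV)) _

theorem le_normalizer_of_comm {P V : Subgroup G} (hP : IsMulCommutative P) (hV : V ≤ P) :
    centralizer (P : Set G) ≤ normalizer (V : Set G) :=
  (centralizer_le hV).trans (centralizer_le_normalizer _)

/-- `p ^ m - 1 ∣ (m + 1) (p² - 1)` -/
theorem num_aff (hp : p.Prime) {n : ℕ} (hn : 2 ≤ n) (h : p ^ (n - 1) - 1 ∣ n * (p ^ 2 - 1)) :
    n = 2 ∨ n = 3 ∨ (n = 5 ∧ p = 2) := by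
  have h2 := hp.two_le
  have h3 : 0 < p ^ 2 - 1 := by
    have : 1 < p ^ 2 := Nat.one_lt_pow (by norm_num) hp.one_lt
    omega
  by_cases h6 : 6 ≤ n
  · exfalso
    obtain ⟨k, rfl⟩ : ∃ k, n = k + 6 := ⟨n - 6, by omega⟩
    have h4 := Nat.le_of_dvd (Nat.mul_pos (by omega) h3) h
    have h5 : k + 6 < p ^ (k + 3) := by
      have h7 := Nat.pow_le_pow_left h2 (k + 3)
      have h8 : k < 2 ^ k := Nat.lt_two_pow_self
      rw [pow_add] at h7
      omega
    rw [show k + 6 - 1 = k + 3 + 2 by omega, pow_add] at h4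
    obtain ⟨a, ha⟩ : ∃ a, p ^ 2 = a + 1 := ⟨p ^ 2 - 1, by omega⟩
    rw [ha] at h4 h3
    simp only [add_tsub_cancel_right] at h4 h3
    have h9 : (k + 7) * (a + 1) ≤ p ^ (k + 3) * (a + 1) := Nat.mul_le_mul_right _ h5
    have h10 : (k + 7) * (a + 1) = (k + 6) * a + a + k + 7 := by ring
    omega
  obtain ⟨a, rfl⟩ : ∃ a, p = a + 1 := ⟨p - 1, by omega⟩
  have ha : 0 < a := by omega
  interval_cases n
  · simp
  · simp
  · exfalso
    rw [show (a + 1) ^ (4 - 1) - 1 = a * (a ^ 2 + 3 * a + 3) from Nat.sub_eq_of_eq_add (by ring),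
      show (a + 1) ^ 2 - 1 = a * (a + 2) from Nat.sub_eq_of_eq_add (by ring), mul_left_comm,
      Nat.mul_dvd_mul_iff_left ha] at h
    have h4 : a ^ 2 + 3 * a + 3 ∣ 4 := by
      have h5 := (Nat.dvd_sub (dvd_mul_left (a ^ 2 + 3 * a + 3) 4) (h.mul_left (a + 1)))
      rwa [show 4 * (a ^ 2 + 3 * a + 3) - (a + 1) * (4 * (a + 2)) = 4 from Nat.sub_eq_of_eq_add (by ring)] at h5
    have := Nat.le_of_dvd (by norm_num) h4
    nlinarith
  · right; right
    rw [show (a + 1) ^ (5 - 1) - 1 = (a * (a + 2)) * (a ^ 2 + 2 * a + 2) from Nat.sub_eq_of_eq_add (by ring),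
      show (a + 1) ^ 2 - 1 = a * (a + 2) from Nat.sub_eq_of_eq_add (by ring), mul_comm 5,
      Nat.mul_dvd_mul_iff_left (by positivity)] at h
    have := Nat.le_of_dvd (by norm_num) h
    refine ⟨rfl, ?_⟩
    nlinarith

end CL.EqOrd
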