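import Cfsg.Agent.INV.EqOrd.Ree
import Cfsg.Agent.INV.AbComp
import Cfsg.Agent.INV.J1Ord
import Cfsg.Agent.INV.ABG.Cover
import Cfsg.Agent.PERM.J1
import Cfsg.Agent.SPOR.GraphIso
import Cfsg.Agent.S0228
import Cfsg.Agent.S0251

/-!
# Groups with trivial core whose `p`-subgroups of equal order are conjugate
-/

set_option autoImplicit false

namespace CL.EqOrd

open Cfsg Subgroup CL.MSS CL.AbS CL.CenG CL.Comp
open scoped MatrixGroups

variable {G : Type*} [Group G] [Finite G]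

theorem not_cp {x s t : G} (hx : Odd (orderOf x)) (hx1 : x ≠ 1) (ht : orderOf t = 2) (htx : Commute t x)
    (hs : orderOf s = 2) (hsx : s * x * s⁻¹ = x⁻¹) : ¬ CP G := fun h => by
  obtain ⟨g, hg⟩ := h (zpowers (t * x)) (zpowers s ⊔ zpowers x) (by
    rw [Nat.card_zpowers, htx.orderOf_mul_eq_mul_orderOf_of_coprime (ht ▸ Nat.coprime_two_left.2 hx),
      card_sup_of_disjoint (zpowers_le.2 (JR.mem_normalizer_zpowers (hsx ▸ inv_mem (mem_zpowers x))))
        (disjoint_of_coprime_natCard (by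
          rw [Nat.card_zpowers, Nat.card_zpowers, hs]; exact Nat.coprime_two_left.2 hx)).eq_bot,
      Nat.card_zpowers, Nat.card_zpowers, hs, ht])
  have : IsMulCommutative (zpowers s ⊔ zpowers x : Subgroup G) := hg ▸ isMulCommutative_cj g inferInstance
  exact hx1 (JR.eq_one_of_commute_of_inverts hx (congrArg Subtype.val (mul_comm'
    (⟨s, mem_sup_left (mem_zpowers s)⟩ : (zpowers s ⊔ zpowers x : Subgroup G)) ⟨x, mem_sup_right (mem_zpowers x)⟩)) hsx)

theorem not_cp_of_cen {t : G} {f : alternatingGroup (Fin 5) →* G} (C : Cen t f) : ¬ CP G := by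
  obtain ⟨x, s, h1, h2, h3, h4, h5⟩ : ∃ x s : alternatingGroup (Fin 5), x ^ 3 = 1 ∧ x ≠ 1 ∧ s ^ 2 = 1 ∧ s ≠ 1 ∧
      s * x * s⁻¹ = x⁻¹ :=
    ⟨⟨Equiv.swap 0 1 * Equiv.swap 1 2, Equiv.Perm.mem_alternatingGroup.2 (by decide)⟩,
      ⟨Equiv.swap 0 1 * Equiv.swap 3 4, Equiv.Perm.mem_alternatingGroup.2 (by decide)⟩, by decide⟩
  refine not_cp (x := f x) (s := f s) (t := t) ?_ ((map_ne_one_iff f C.inj).2 h2)
    (orderOf_eq_prime (by rw [sq, C.sq]) C.ne_one) (C.comm x).symm ?_ (by rw [← map_inv, ← map_mul, ← map_mul, h5, map_inv])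
  · rw [orderOf_injective f C.inj, orderOf_eq_prime h1 h2]; decide
  · rw [orderOf_injective f C.inj, orderOf_eq_prime h3 h4]

theorem not_cp_of_psl {F : Type*} [Field F] [Finite F] (h8 : Nat.card F % 8 = 3 ∨ Nat.card F % 8 = 5)
    (h5 : 5 < Nat.card F) (e : G ≃* PSL(2, F)) : ¬ CP G := by
  classical
  have := Fintype.ofFinite F
  obtain ⟨φ, hφ, hr⟩ := exists_embed e
  obtain ⟨t, ht⟩ := exists_prime_orderOf_dvd_card' (G := G) 2 (by
    have h1 := GL2.gcd_mul_card_PSL2 (F := F)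
    rw [← Nat.card_eq_fintype_card, Nat.gcd_eq_left (by omega), ← Nat.card_congr e.toEquiv] at h1
    have h2 : 2 * 2 ∣ Nat.card F * (Nat.card F + 1) * (Nat.card F - 1) :=
      Nat.mul_dvd_mul (Dvd.dvd.mul_left (by omega) _) (by omega)
    exact Nat.dvd_of_mul_dvd_mul_left two_pos (h1 ▸ h2))
  obtain ⟨T, -, htT, hTC, hc, hq, hout, -⟩ := exists_torus (Nat.odd_iff.2 (by omega)) hφ hr ht
  obtain ⟨m, hm⟩ : 2 ∣ Nat.card T := ht ▸ T.orderOf_dvd_natCard htT
  obtain ⟨r, hr, hrm⟩ := Nat.exists_prime_and_dvd (show m ≠ 1 by omega)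
  have := Fact.mk hr
  obtain ⟨x, hx⟩ := exists_prime_orderOf_dvd_card' (G := T) r (hm ▸ hrm.mul_left 2)
  obtain ⟨c, hc1, hc2⟩ := SetLike.exists_of_lt (lt_of_le_of_ne hTC fun e => by
    rw [← e] at hc
    have := Nat.card_pos (α := T)
    omega)
  obtain ⟨h1, h2⟩ := hout c (mem_centralizer_singleton_iff.1 hc1) hc2
  refine not_cp (x := x) ?_ (fun e => hr.one_lt.ne' ?_) ht (mem_centralizer_singleton_iff.1 (hTC x.2)).symm
    (orderOf_eq_prime (x := c) (by rw [sq, h1]) fun e => hc2 (e ▸ one_mem _)) (h2 x x.2)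
  · rw [Subgroup.orderOf_coe, hx]
    exact Odd.of_dvd_nat (Nat.odd_iff.2 (by omega)) hrm
  · rw [← hx, ← Subgroup.orderOf_coe, e, orderOf_one]

/-- `PSL₂(p)` or `PSL₂(p³)` with `p ≡ ±3 (mod 8)` -/
def L2 (G : Type*) [Group G] : Prop :=
  ∃ (p : ℕ) (_ : Fact p.Prime), (p % 8 = 3 ∨ p % 8 = 5) ∧
    (Nonempty (G ≃* PSL(2, ZMod p)) ∨ Nonempty (G ≃* PSL(2, GaloisField p 3)))

/-- the groups with elementary abelian Sylow `2`-subgroups of order at least `8` -/
def Big (G : Type*) [Group G] : Prop :=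
  Nonempty (G ≃* affineGroup (GaloisField 2 3)) ∨ Nonempty (G ≃* semiaffineGroup (GaloisField 2 3)) ∨
    Nonempty (G ≃* semiaffineGroup (GaloisField 2 5)) ∨ (IsJ1 G ∧ ¬ CP G) ∨
    Nonempty (G ≃* PSL(2, GaloisField 2 3)) ∨ Nonempty (G ≃* MulAut PSL(2, GaloisField 2 5))

theorem L2.of_cp (h : L2 G) (hC : CP G) :
    Nonempty (G ≃* PSL(2, ZMod 3)) ∨ Nonempty (G ≃* PSL(2, ZMod 5)) := by
  obtain ⟨p, hp, h8, ⟨⟨e⟩⟩ | ⟨⟨e⟩⟩⟩ := h
  · by_cases h5 : 5 < p
    · exact absurd hC (not_cp_of_psl (by rwa [Nat.card_zmod]) (by rwa [Nat.card_zmod]) e)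
    obtain rfl | rfl : p = 3 ∨ p = 5 := by omega
    · exact Or.inl ⟨e⟩
    · exact Or.inr ⟨e⟩
  · refine absurd hC (not_cp_of_psl ?_ ?_ e) <;> rw [GaloisField.card p 3 (by norm_num)]
    · rcases h8 with h | h <;> simp [Nat.pow_mod, h]
    · have := Nat.pow_le_pow_left (show 3 ≤ p by omega) 3
      omega

theorem psl_galois {F : Type*} [Field F] [Fintype F] {p n : ℕ} [Fact p.Prime] (hF : Fintype.card F = p ^ n)
    (hn : n ≠ 0) : Nonempty (PSL(2, F) ≃* PSL(2, GaloisField p n)) := by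
  have := Fintype.ofFinite (GaloisField p n)
  exact ⟨Graph.pslCongr (FiniteField.ringEquivOfCardEq (by
    rw [hF, ← Nat.card_eq_fintype_card, GaloisField.card p n hn]))⟩

theorem index_dvd_card_gl {p n : ℕ} [Fact p.Prime] {P : Subgroup G} [P.Normal] (hP : IsElementaryAbelian p P)
    (hC : centralizer (P : Set G) ≤ P) (hc : Nat.card P ≤ p ^ n) : P.index ∣ Nat.card (GL (Fin n) (ZMod p)) := by
  obtain ⟨f, hf⟩ := EAGL.exists_hom_gl (V := P) hP.1.is_comm.comm (fun x => Subtype.ext (hP.2 _ x.2)) hc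
  refine (index_dvd_of_le hC).trans ?_
  rw [← ker_conj, index_ker]
  exact (card_subgroup_dvd_card _).trans (card_dvd_of_injective f hf)

theorem solvable_case (h : BP 2 G) (hO : oddCore G = ⊥) (S : Sylow 2 G)
    (hS : IsElementaryAbelian 2 (S : Subgroup G)) (hc : ¬ IsCyclic S) (hL : ¬ ∃ K : Subgroup G, IsCompIn K ⊤) :
    (8 ∣ Nat.card G ∧ Big G) ∨ L2 G := by
  have h1 : layer G = ⊥ := by
    rw [← layerOf_top, layerOf_eq_bot_iff]
    exact fun K hK => hL ⟨K, hK⟩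
  have h2 := sylow_le_fstar (ab2_of_sylow S hS.1) hO S.isPGroup'
  rw [fstar_eq_layer_sup_pCore hO, h1, bot_sup_eq] at h2
  have h3 : Group.IsSolvable (G ⧸ pCore 2 G) :=
    isSolvable_of_not_two_dvd _ fun e => S.not_dvd_index (e.trans (index_dvd_of_le h2))
  have h4 : Group.IsSolvable (pCore 2 G) := isSolvable_of_isPGroup (PComp.pCore_isPGroup 2)
  have h5 : Group.IsSolvable G := Group.isSolvable_of_ker_le_range (pCore 2 _).subtype
    (QuotientGroup.mk' (pCore 2 _)) (by rw [QuotientGroup.ker_mk', range_subtype])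
  have h6 : pCore 2 G = S := S.is_maximal' (PComp.pCore_isPGroup 2) h2
  have hN : (S : Subgroup G).Normal := h6 ▸ inferInstance
  have hC : centralizer ((S : Subgroup G) : Set G) ≤ S := h6 ▸ centralizer_pCore_le_of_isSolvable hO
  have htr : ∀ m, Tr m ⊤ (S : Subgroup G) := fun m => (h.tr S hS.1 m).mono le_top
  obtain ⟨n, hn⟩ := S.isPGroup'.exists_card_eq
  have h7 : 2 ≤ n := by
    by_contra h7
    exact hc (isCyclic_of_card_dvd_prime (p := 2) (hn ▸ (pow_dvd_pow 2 (show n ≤ 1 by omega)).trans (by simp)))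
  by_cases h8 : 3 ≤ n
  · refine Or.inl ⟨(pow_dvd_pow 2 h8).trans (hn ▸ card_subgroup_dvd_card _), ?_⟩
    rcases affine_main hS S.card_coprime_index hC h8 hn (htr _) (htr _) with ⟨-, -, h9⟩ | ⟨-, -, h9⟩
    · exact (h9 rfl).elim (fun e => Or.inr (Or.inl e)) Or.inl
    · exact Or.inr (Or.inr (Or.inl h9))
  obtain rfl : n = 2 := by omega
  have h9 : ∀ z : G, orderOf z = 2 → z ∉ center G := fun z hz hz' => by
    have h10 : (S : Subgroup G) ≤ zpowers z := fun w hw => by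
      by_cases h11 : w = 1
      · exact h11 ▸ one_mem _
      obtain ⟨g, hg⟩ := h.conj_two hz (orderOf_eq_prime (hS.2 w hw) h11)
      rw [← hg, mem_center_iff.1 hz', mul_inv_cancel_right]
      exact mem_zpowers z
    have := card_le_of_le h10
    rw [Nat.card_zpowers, hz, hn] at this
    omega
  have h10 := index_dvd_card_gl (n := 2) hS hC hn.le
  rw [Matrix.card_GL_field, ZMod.card] at h10
  have h11 : (S : Subgroup G).index ∣ 3 := (Nat.prime_two.coprime_iff_not_dvd.2 S.not_dvd_index).symm.dvd_of_dvd_mul_left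
    (h10.trans (by decide))
  rcases (Nat.dvd_prime Nat.prime_three).1 h11 with h12 | h12
  · obtain ⟨z, hz⟩ := exists_prime_orderOf_dvd_card' (G := G) 2
      ((show 2 ∣ 2 ^ 2 by norm_num).trans (hn ▸ card_subgroup_dvd_card _))
    have := hS.1
    have h13 : ∀ g, g ∈ (S : Subgroup G) := fun g => index_eq_one.1 h12 ▸ mem_top g
    exact absurd (mem_center_iff.2 fun g => congrArg Subtype.val
      (mul_comm' (⟨g, h13 g⟩ : (S : Subgroup G)) ⟨z, h13 z⟩)) (h9 z hz)
  obtain ⟨e⟩ := Cfsg.Agent.S0228.result (by rw [← (S : Subgroup G).card_mul_index, h12, hn]; rfl) h9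
  obtain ⟨ε⟩ := Cfsg.Agent.S0251.result (ZMod.card 3)
  exact Or.inr ⟨3, inferInstance, Or.inl rfl, Or.inl ⟨e.trans ε.symm⟩⟩

theorem exists_simple (h : BP 2 G) (hO : oddCore G = ⊥) (S : Sylow 2 G)
    (hS : IsElementaryAbelian 2 (S : Subgroup G)) {K : Subgroup G} (hK : IsCompIn K ⊤) :
    K.Normal ∧ centralizer (K : Set G) = ⊥ ∧ IsSimpleGroup K ∧ ¬ IsMulCommutative K := by
  obtain ⟨t, htK, ht, htC⟩ : ∃ t ∈ K, orderOf t = 2 ∧ t ∉ centralizer (K : Set G) := by
    by_contra! h1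
    obtain ⟨T⟩ : Nonempty (Sylow 2 K) := inferInstance
    have h2 : (T : Subgroup K) ≤ center K := fun x hx => by
      by_cases h3 : (x : G) = 1
      · exact (Subtype.ext h3 : x = 1) ▸ one_mem _
      obtain ⟨g, -, hg⟩ := (sylIn_top S).exists_conj_le (T.isPGroup'.map K.subtype) le_top
      have h4 := hS.2 _ (hg (conj_mem_cj (mem_map_of_mem _ hx)))
      rw [conj_pow, conj_eq_one_iff] at h4
      exact mem_center_iff.2 fun y => Subtype.ext (mem_centralizer_iff.1 (h1 x x.2 (orderOf_eq_prime h4 h3)) y y.2)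
    have h3 : Group.IsSolvable (K ⧸ center K) :=
      isSolvable_of_not_two_dvd _ fun e => T.not_dvd_index (e.trans (index_dvd_of_le h2))
    have h4 : Group.IsSolvable (center K) := Group.isSolvable_of_comm fun a b => mul_comm' a b
    exact hK.not_isSolvable (Group.isSolvable_of_ker_le_range (center K).subtype
      (QuotientGroup.mk' (center K)) (by rw [QuotientGroup.ker_mk', range_subtype]))
  have ht2 : t * t = 1 := by rw [← sq, ← ht, pow_orderOf_eq_one]
  have h2 : K.Normal := normal_of_cj fun g => by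
    by_contra hne
    have h3 := hK.conj_of_mem (g := g) trivial
    have h4 : g * t * g⁻¹ ∈ centralizer (K : Set G) := h3.le_centralizer_of_ne hK hne (conj_mem_cj htK)
    have h5 : t ∈ centralizer ((g •ᶜ K : Subgroup G) : Set G) := hK.le_centralizer_of_ne h3 (Ne.symm hne) htK
    obtain ⟨k, hk⟩ := h.conj_two ht (orderOf_eq_prime (x := t * (g * t * g⁻¹)) (p := 2) (by
      rw [Commute.mul_pow (mem_centralizer_iff.1 h4 t htK), conj_pow, sq, ht2]; simp) fun e => htC (by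
        rw [eq_inv_of_mul_eq_one_left e]; exact inv_mem h4))
    have h6 := hK.conj_of_mem (g := k) trivial
    have h7 : t * (g * t * g⁻¹) ∈ k •ᶜ K := hk ▸ conj_mem_cj htK
    by_cases h8 : k •ᶜ K = K
    · have h9 := h6.le_centralizer_of_ne h3 (h8.symm ▸ Ne.symm hne) h7
      rw [mul_mem_cancel_left h5, ← cj_centralizer, conj_mem_cj_iff] at h9
      exact htC h9
    · exact htC ((mul_mem_cancel_right h4).1 (h6.le_centralizer_of_ne hK h8 h7))
  have h3 : centralizer (K : Set G) = ⊥ := le_bot_iff.1 (hO ▸ PComp.le_pPrimeCore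
    (Nat.prime_two.coprime_iff_not_dvd.2 fun e => htC (h.mem_of_orderOf e (by rw [sq, ht2]))).symm)
  refine ⟨h2, h3, hK.isQuasisimple.isSimpleGroup_of_center_eq_bot (eq_bot_iff.2 fun z hz => Subtype.ext ?_),
    fun e => hK.not_isSolvable (Group.isSolvable_of_comm fun a b => e.is_comm.comm a b)⟩
  have : (z : G) ∈ centralizer (K : Set G) := mem_centralizer_iff.2
    fun k hk => congrArg Subtype.val (mem_center_iff.1 hz ⟨k, hk⟩)
  rwa [h3, mem_bot] at this

theorem elem_case (h : ∀ p : ℕ, p.Prime → BP p G) (hO : oddCore G = ⊥) (S : Sylow 2 G)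
    (hS : IsElementaryAbelian 2 (S : Subgroup G)) (hc : ¬ IsCyclic S) : (8 ∣ Nat.card G ∧ Big G) ∨ L2 G := by
  classical
  have h2 := h 2 Nat.prime_two
  have h3 := h 3 Nat.prime_three
  by_cases hL : ∃ K : Subgroup G, IsCompIn K ⊤
  swap
  · exact solvable_case h2 hO S hS hc hL
  obtain ⟨K, hK⟩ := hL
  obtain ⟨hN, hC, hs, hna⟩ := exists_simple h2 hO S hS hK
  have hinj : Function.Injective (MulAut.conjNormal (H := K)) :=
    (MonoidHom.ker_eq_bot_iff _).1 ((ker_conj K).trans hC)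
  obtain ⟨T⟩ : Nonempty (Sylow 2 K) := inferInstance
  rcases bender_walter hna T (((h2.ab2 hna).subgroup K).isMulCommutative T.isPGroup') with
    ⟨a, ha, F, _, _, hF, ⟨e⟩⟩ | ⟨F, _, _, h8, h4, ⟨e⟩⟩ | hJ
  · have h4 : 4 ≤ Fintype.card F := hF ▸ Nat.pow_le_pow_right (n := 2) (by norm_num) ha
    obtain ⟨ε⟩ := psl_galois hF (by omega)
    have h8 : 3 ≤ a → 8 ∣ Nat.card G := fun h5 => by
      obtain ⟨Q⟩ : Nonempty (Sylow 2 PSL(2, F)) := inferInstance
      refine ((pow_dvd_pow 2 h5).trans ?_).trans K.card_subgroup_dvd_card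
      rw [← hF, ← card_sylow_psl hF Q, Nat.card_congr e.toEquiv]
      exact card_subgroup_dvd_card _
    rcases h2.psl_even hna e hF ha with rfl | rfl | ⟨rfl, h5⟩
    · obtain rfl := eq_top_of_psl h2 h3 hna hC e hF h4 (by norm_num)
      have := Fact.mk Nat.prime_five
      obtain ⟨ε₁⟩ := Cfsg.Agent.S0252.result hF
      obtain ⟨ε₂⟩ := Cfsg.Agent.S0253.result (ZMod.card 5)
      exact Or.inr ⟨5, this, Or.inr rfl, Or.inl ⟨topEquiv.symm.trans (e.trans (ε₁.trans ε₂.symm))⟩⟩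
    · obtain rfl := eq_top_of_psl h2 h3 hna hC e hF h4 le_rfl
      exact Or.inl ⟨h8 le_rfl, Or.inr (Or.inr (Or.inr (Or.inr (Or.inl ⟨topEquiv.symm.trans (e.trans ε)⟩))))⟩
    · exact Or.inl ⟨h8 (by norm_num), Or.inr (Or.inr (Or.inr (Or.inr (Or.inr ⟨(MulEquiv.ofBijective _
        ⟨hinj, MonoidHom.range_eq_top.1 h5⟩).trans (MulAut.congr (e.trans ε))⟩))))⟩
  · obtain ⟨p, _, f, hp, hF⟩ := FiniteField.card' F
    have := Fact.mk hp
    obtain ⟨h5, h6⟩ := h2.psl_odd (h p hp) hna hC e hF h8 h4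
    obtain rfl := eq_top_of_psl h2 h3 hna hC e hF h4 (by omega)
    refine Or.inr ⟨p, this, h5, h6.imp (fun h7 => ⟨topEquiv.symm.trans (e.trans (Graph.pslCongr
      (FiniteField.ringEquivOfCardEq (by rw [hF, h7, ZMod.card, pow_one]))))⟩) fun h7 => ?_⟩
    obtain ⟨ε⟩ := psl_galois (h7 ▸ hF) (by norm_num)
    exact ⟨topEquiv.symm.trans (e.trans ε)⟩
  · obtain ⟨h4, t, f, hf⟩ := h2.jr h3 hna hJ
    obtain ⟨e⟩ := J1U.isoJ1_of_jr h4.2 hJ
    obtain rfl : K = ⊤ := eq_top_iff.2 fun g _ => by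
      obtain ⟨j, hj⟩ := J1.aut_inner (MulAut.congr e (MulAut.conjNormal g))
      have h5 : MulAut.conjNormal g = MulAut.conjNormal (H := K) (e.symm j : K) := MulEquiv.ext fun x => by
        have h6 := congrArg (fun φ : MulAut _ => e.symm (φ (e x))) hj
        simp only [MulAut.congr_apply, MulEquiv.trans_apply, MulEquiv.symm_apply_apply, MulAut.conj_apply,
          map_mul, map_inv] at h6
        rw [h6]
        rfl
      rw [hinj h5]
      exact (e.symm j).2
    have h5 : Nat.card G = 175560 := by rw [← h4.2, card_top]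
    exact Or.inl ⟨by omega, Or.inr (Or.inr (Or.inr (Or.inl ⟨⟨topEquiv.symm.isSimpleGroup, h5⟩, fun h6 =>
      not_cp_of_cen hf (h6.of_surjective (f := (topEquiv (G := G)).symm.toMonoidHom) topEquiv.symm.surjective)⟩)))⟩

theorem cyclic_case (hO : oddCore G = ⊥) (S : Sylow 2 G) (hc : IsCyclic S) : IsCyclic G ∧ IsPGroup 2 G := by
  obtain ⟨P, N, hN, hP⟩ := GW.hasNPC_of_isCyclic S hc
  obtain rfl : N = ⊥ := le_bot_iff.1 (hO ▸ PComp.le_pPrimeCore (by
    rw [← hP.index_eq_card]; exact (Nat.prime_two.coprime_iff_not_dvd.2 P.not_dvd_index).symm))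
  have h1 := isComplement'_bot_left.1 hP
  have h2 : IsCyclic P := (S.equiv P).isCyclic.1 hc
  exact ⟨isCyclic_of_surjective (P : Subgroup G).subtype (fun x => ⟨⟨x, h1 ▸ mem_top x⟩, rfl⟩),
    (h1 ▸ P.isPGroup' : IsPGroup 2 (⊤ : Subgroup G)).of_equiv topEquiv⟩

theorem quat_case (h : ∀ p : ℕ, p.Prime → DP p G) (hO : oddCore G = ⊥) (S : Sylow 2 G)
    (e : (S : Subgroup G) ≃* QuaternionGroup 2) : ∃ (Z : Subgroup G) (_ : Z.Normal), L2 (G ⧸ Z) ∧
      ∀ (F : Type) [Field F] [Finite F], Odd (Nat.card F) → Nonempty (G ⧸ Z ≃* PSL(2, F)) →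
        Nonempty (G ≃* SL(2, F)) := by
  obtain ⟨z, hz, hz2, hu, hN⟩ := GW.quat_center S (n := 0) e
  have hc : ∀ x, x * z = z * x := fun x => by
    have h1 : z ∈ (center (G ⧸ pPrimeCore 2 G)).comap (QuotientGroup.mk' _) := hN ▸ mem_sup_left (mem_zpowers z)
    refine (MonoidHom.ker_eq_bot_iff (QuotientGroup.mk' (pPrimeCore 2 G))).1 ((QuotientGroup.ker_mk' _).trans hO) ?_
    rw [map_mul, map_mul]
    exact mem_center_iff.1 h1 _
  have hc' : ∀ y ∈ zpowers z, ∀ x, x * y = y * x := fun y hy x => JR.commute_of_mem_zpowers (hc x) hy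
  have hn : (zpowers z).Normal := ⟨fun y hy g => by rw [hc' y hy, mul_inv_cancel_right]; exact hy⟩
  have hu' : ∀ x, x * x = 1 → x ∈ zpowers z := fun x hx => by
    obtain ⟨g, -, hg⟩ := (sylIn_top S).exists_conj_le (isPGroup_zpowers (k := 1) (x := x) (by rw [pow_one, sq, hx]))
      le_top
    rcases hu _ (hg (conj_mem_cj (mem_zpowers x))) (by rw [conj_mul, hx]; simp) with h1 | h1
    · exact conj_eq_one_iff.1 h1 ▸ one_mem _
    · rw [mul_inv_eq_iff_eq_mul, ← hc, mul_left_cancel_iff] at h1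
      exact h1 ▸ mem_zpowers _
  have hf := QuotientGroup.mk'_surjective (zpowers z)
  refine ⟨zpowers z, hn, ?_, fun F _ _ hF ⟨ε⟩ => ?_⟩
  · have h1 := card_map_mul_card_inf_ker (S : Subgroup G) (QuotientGroup.mk' (zpowers z))
    rw [QuotientGroup.ker_mk', inf_eq_right.2 (zpowers_le.2 hz), Nat.card_zpowers, hz2,
      Nat.card_congr e.toEquiv, Nat.card_eq_fintype_card (α := QuaternionGroup 2), QuaternionGroup.card] at h1
    have h2 : Nat.card (S.mapSurjective hf) = 4 := by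
      change Nat.card ((S : Subgroup G).map (QuotientGroup.mk' (zpowers z))) = 4
      omega
    have h3 : ∀ x ∈ (S.mapSurjective hf : Subgroup (G ⧸ zpowers z)), x ^ 2 = 1 := by
      rintro _ ⟨x, hx, rfl⟩
      rw [← map_pow, ← MonoidHom.mem_ker, QuotientGroup.ker_mk']
      have h4 : ∀ y : QuaternionGroup 2, y ^ 2 * y ^ 2 = 1 := by decide
      have h5 := congrArg (fun y => ((e.symm y : (S : Subgroup G)) : G)) (h4 (e ⟨x, hx⟩))
      exact hu' _ (by simpa using h5)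
    refine (elem_case (fun p hp => have := Fact.mk hp; ((h p hp).of_surjective hf).bp)
      (ABG.oddCore_quot_eq_bot hO hc') _ (elemAb_two_of_sq h3) fun h4 => ?_).resolve_left fun h4 => ?_
    · have h5 : Nat.card (S.mapSurjective hf) ∣ 2 := by
        rw [← IsCyclic.exponent_eq_card]
        exact Monoid.exponent_dvd_of_forall_pow_eq_one fun x => Subtype.ext (h3 _ x.2)
      exact absurd (h2.symm.dvd.trans h5) (by norm_num)
    · exact absurd (((S.mapSurjective hf).pow_dvd_card_of_pow_dvd_card (n := 3) h4.1).trans h2.dvd) (by norm_num)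
  · classical
    have := Fintype.ofFinite F
    rw [Nat.card_eq_fintype_card] at hF
    obtain ⟨ι, hι, -, h1⟩ := ABG.exists_iota hF hc' (isPGroup_zpowers (k := 1) (by
      rw [pow_one, ← hz2, pow_orderOf_eq_one])) (L := ⊤) (topEquiv.trans ε) (K := ⊤) (fun _ _ => trivial)
      fun x _ => hu' x
    have h2 : zpowers z ≤ ι.range := by
      rw [← (JR.mem_zpowers_of_prime Nat.prime_two hz2 (hu' (ι (-1)) (by rw [← map_mul]; simp)) ?_).2]
      · exact zpowers_le.2 ⟨_, rfl⟩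
      · rw [Ne, map_eq_one_iff ι hι]
        intro h3
        have h4 := congrArg (fun m : SL(2, F) => m 0 0) h3
        have h5 := GL2.two_dvd_card_of_two_eq_zero (F := F) (by
          simp at h4
          linear_combination -h4)
        exact (Nat.not_even_iff_odd.2 hF) (even_iff_two_dvd.2 h5)
    refine ⟨(MulEquiv.ofBijective ι ⟨hι, fun x => ?_⟩).symm⟩
    obtain ⟨s, c, hc, rfl⟩ := h1 x trivial
    exact mul_mem (⟨s, rfl⟩ : ι s ∈ ι.range) (h2 hc)

end CL.EqOrd
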