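import Cfsg.Agent.INV.EqOrd.PSL
import Cfsg.Agent.INV.AbPSL2
import Cfsg.Agent.INV.CenG
import Cfsg.Agent.ODD.AuxH39a

/-!
# Simple normal subgroups of groups whose abelian `p`-subgroups of equal order are conjugate
-/

set_option autoImplicit false

namespace CL.EqOrd

open Cfsg Subgroup CL.MSS CL.AbS
open scoped MatrixGroups

variable {G : Type*} [Group G] [Finite G] {p : ℕ} {M : Subgroup G}

omit [Finite G] in
theorem ker_conj (M : Subgroup G) [M.Normal] : (MulAut.conjNormal (H := M)).ker = centralizer (M : Set G) := by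
  ext g
  rw [MonoidHom.mem_ker, mem_centralizer_iff]
  refine ⟨fun e y hy => ?_, fun e => MulEquiv.ext fun y => Subtype.ext ?_⟩
  · have := congrArg (fun φ : MulAut M => (φ ⟨y, hy⟩ : G)) e
    change g * y * g⁻¹ = y at this
    rw [mul_inv_eq_iff_eq_mul] at this
    exact this.symm
  · change g * y * g⁻¹ = y
    rw [← e y y.2, mul_inv_cancel_right]

theorem inf_centralizer_eq_bot [IsSimpleGroup M] (hna : ¬ IsMulCommutative M) :
    M ⊓ centralizer (M : Set G) = ⊥ := eq_bot_iff.2 fun x hx => by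
  have : (⟨x, hx.1⟩ : M) ∈ center M := mem_center_iff.2 fun y => Subtype.ext (mem_centralizer_iff.1 hx.2 y y.2)
  rw [AbS.center_eq_bot hna, mem_bot] at this
  exact congrArg Subtype.val this

theorem BP.dvd_range [hp : Fact p.Prime] [M.Normal] (h : BP p G) (P : Sylow p G)
    (hP : IsElementaryAbelian p (P : Subgroup G)) (hPM : (P : Subgroup G) ≤ M)
    (hZ : M ⊓ centralizer (M : Set G) = ⊥) (hq : p < Nat.card P) :
    (Nat.card P - 1) * (Nat.card P - p) * (Nat.card P * Nat.card (Sylow p M)) ∣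
      Nat.card (MulAut.conjNormal (H := M)).range * ((p ^ 2 - 1) * (p ^ 2 - p)) := by
  set c := MulAut.conjNormal (H := M)
  set N := normalizer ((P : Subgroup G) : Set G)
  have hD : ∀ V ≤ (P : Subgroup G), ((P : Subgroup G).map c).comap c ≤ normalizer (V : Set G) := fun V hV => by
    rw [comap_map_eq, ker_conj]
    exact sup_le (le_normalizer_of_le hP.1 hV) ((centralizer_le (hV.trans hPM)).trans (centralizer_le_normalizer _))
  have h1 := (h.tr P hP.1 _).dvd hP le_rfl hq hD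
  have h2 := relIndex_mul_index (hD P le_rfl)
  have h3 : N.index = Nat.card (Sylow p M) := by
    have h4 := (sylIn_sylow P hPM).frattini_sup (H := ⊤) le_top (by rw [normalizer_eq_top])
    rw [SN.card_sylow_of_sylIn (sylIn_sylow P hPM), SN.index_eq_index_sup_mul N M, sup_comm, ← top_inf_eq N, h4,
      index_top, one_mul, top_inf_eq]
  have h4 : Nat.card P * (((P : Subgroup G).map c).comap c).index = Nat.card c.range := by
    rw [index_comap, ← (((P : Subgroup G).map c).subgroupOf c.range).card_mul_index,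
      Nat.card_congr (subgroupOfEquivOfLe (map_le_range c P)).toEquiv, card_map_of_inf_ker c (by
        rw [ker_conj, ← le_bot_iff, ← hZ]; exact inf_le_inf_right _ hPM)]
    rfl
  rw [← h4, ← h2, h3]
  convert Nat.mul_dvd_mul_right h1 (Nat.card P * Nat.card (Sylow p M)) using 1
  change _ = ((P : Subgroup G).map c |>.comap c).relIndex N * _ * _
  ring

omit [Finite G] in
theorem elemAb_two_of_sq {S : Subgroup G} (h2 : ∀ x ∈ S, x ^ 2 = 1) : IsElementaryAbelian 2 S := by
  refine ⟨IsMulCommutative.of_comm fun a b => Subtype.ext ?_, h2⟩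
  have h3 : ∀ x ∈ S, x⁻¹ = x := fun x hx => inv_eq_of_mul_eq_one_right (by rw [← sq, h2 x hx])
  have h4 := h3 _ (mul_mem a.2 b.2)
  rw [mul_inv_rev, h3 _ a.2, h3 _ b.2] at h4
  exact h4.symm

theorem BP.two [M.Normal] [IsSimpleGroup M] (h : BP 2 G) (hna : ¬ IsMulCommutative M) (S : Sylow 2 G) :
    IsElementaryAbelian 2 (S : Subgroup G) ∧ (S : Subgroup G) ≤ M := by
  obtain ⟨V, hV⟩ := exists_kleinFour_of_simple hna
  have h1 : IsElementaryAbelian 2 V := elemAb_two_of_sq fun x hx =>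
    congrArg Subtype.val (hV.exponent_two ▸ Monoid.pow_exponent_eq_one (⟨x, hx⟩ : V))
  have h2 : ∀ x ∈ (S : Subgroup G), x ^ 2 = 1 := fun x hx => by
    obtain ⟨k, hk⟩ := isPGroup_iff_forall_mem.1 S.isPGroup' x hx
    exact h.pow_eq_one (elemAb_map_subtype h1) (by
      rw [card_map_of_injective M.subtype_injective, hV.card_four]; rfl) hk
  refine ⟨elemAb_two_of_sq h2, fun x hx => h.mem_of_orderOf ?_ (h2 x hx)⟩
  exact (show 2 ∣ Nat.card V by rw [hV.card_four]; norm_num).trans V.card_subgroup_dvd_card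

theorem BP.ab2 [M.Normal] [IsSimpleGroup M] (h : BP 2 G) (hna : ¬ IsMulCommutative M) : Ab2 G := by
  obtain ⟨S⟩ : Nonempty (Sylow 2 G) := inferInstance
  exact ab2_of_sylow S (h.two hna S).1.1

theorem BP.not_dvd_index [hp : Fact p.Prime] [M.Normal] [IsSimpleGroup M] (h : BP p G)
    (hna : ¬ IsMulCommutative M) (hd : p ∣ Nat.card M) : ¬ p ∣ M.index := fun hi => by
  obtain ⟨P⟩ : Nonempty (Sylow p G) := inferInstance
  suffices (P : Subgroup G) ≤ M from P.not_dvd_index (hi.trans (index_dvd_of_le this))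
  by_cases hp2 : p = 2
  · subst hp2
    exact (h.two hna P).2
  by_cases hc : IsCyclic P
  · obtain ⟨Q, N, hN, hc⟩ := (Cfsg.Agent.S4145.result p P hc M hd hi).1
    exfalso
    rcases hN.eq_bot_or_eq_top with rfl | rfl
    · have h1 : IsPGroup p M := (isComplement'_bot_left.1 hc ▸ Q.isPGroup' : IsPGroup p (⊤ : Subgroup M)).of_equiv
        topEquiv
      have := h1.isNilpotent
      exact hna (IsMulCommutative.of_comm (IsSimpleGroup.comm_iff_isSolvable.2 inferInstance))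
    · exact Q.ne_bot_of_dvd_card hd (isComplement'_top_left.1 hc)
  · exact fun x hx => by
      obtain ⟨k, hk⟩ := isPGroup_iff_forall_mem.1 P.isPGroup' x hx
      exact h.mem_of_orderOf hd (h.pow_eq_one_of_odd hp2 P.isPGroup' hc hk)

section psl

variable {F : Type*} [Field F] [Fintype F]

theorem not_isCyclic_of_psl [hp : Fact p.Prime] {φ : PSL(2, F) →* G} (hφ : Function.Injective φ) {f : ℕ}
    (hF : Fintype.card F = p ^ f) (hq : p < Fintype.card F) (P : Sylow p G) : ¬ IsCyclic P := fun hc => by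
  obtain ⟨Q⟩ : Nonempty (Sylow p PSL(2, F)) := inferInstance
  obtain ⟨R, hR⟩ := (Q.isPGroup'.map φ).exists_le_sylow
  have h1 : IsCyclic R := (P.equiv R).isCyclic.1 hc
  have h2 : IsCyclic Q := isCyclic_of_injective ((inclusion hR).comp (φ.subgroupMap Q))
    ((inclusion_injective hR).comp fun a b e => Subtype.ext (hφ (congrArg Subtype.val e)))
  have h3 : Nat.card Q ∣ p := by
    rw [← IsCyclic.exponent_eq_card]
    refine Monoid.exponent_dvd_of_forall_pow_eq_one fun x => Subtype.ext ?_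
    obtain ⟨k, hk⟩ := isPGroup_iff_forall_mem.1 Q.isPGroup' _ x.2
    exact psl_pow_char hF hk
  rw [card_sylow_psl hF] at h3
  exact (Nat.le_of_dvd hp.out.pos h3).not_gt hq

theorem BP.psl_dvd [hp : Fact p.Prime] [M.Normal] [IsSimpleGroup M] (h : BP p G) (hna : ¬ IsMulCommutative M)
    (e : M ≃* PSL(2, F)) {f : ℕ} (hF : Fintype.card F = p ^ f) (hq : p < Fintype.card F) (P : Sylow p G)
    (hP : IsElementaryAbelian p (P : Subgroup G)) (hPM : (P : Subgroup G) ≤ M) :
    (Fintype.card F - p) * (Fintype.card F * (Fintype.card F + 1) * (Fintype.card F - 1)) ∣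
      Nat.card (MulAut.conjNormal (H := M)).range * ((p ^ 2 - 1) * (p ^ 2 - p)) := by
  have hc : CharP F p := charP_of_card_eq_prime_pow hF
  obtain ⟨Q⟩ : Nonempty (Sylow p PSL(2, F)) := inferInstance
  have h1 : Nat.card P = Fintype.card F := by
    rw [← card_sylow_psl hF Q, Q.card_eq_multiplicity, ← Nat.card_congr e.toEquiv]
    exact (sylIn_sylow P hPM).card_eq_pow_factorization
  have h2 := h.dvd_range P hP hPM (inf_centralizer_eq_bot hna) (h1 ▸ hq)
  rw [h1, SN.card_sylow_congr e, card_sylows_psl] at h2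
  convert h2 using 1
  ring

theorem card_range_dvd [hp : Fact p.Prime] [M.Normal] (e : M ≃* PSL(2, F)) {f : ℕ} (hF : Fintype.card F = p ^ f)
    (h4 : 4 ≤ Fintype.card F) : Nat.card (MulAut M) =
      f * (Fintype.card F * (Fintype.card F + 1) * (Fintype.card F - 1)) := by
  rw [Nat.card_congr (MulAut.congr e).toEquiv, card_aut_psl hF h4]

theorem BP.psl_even [M.Normal] [IsSimpleGroup M] (h : BP 2 G) (hna : ¬ IsMulCommutative M)
    (e : M ≃* PSL(2, F)) {a : ℕ} (hF : Fintype.card F = 2 ^ a) (ha : 2 ≤ a) :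
    a = 2 ∨ a = 3 ∨ (a = 5 ∧ (MulAut.conjNormal (H := M)).range = ⊤) := by
  obtain ⟨S⟩ : Nonempty (Sylow 2 G) := inferInstance
  have h4 : 4 ≤ Fintype.card F := hF ▸ Nat.pow_le_pow_right (n := 2) (by norm_num) ha
  have h1 := h.psl_dvd hna e hF (by omega) S (h.two hna S).1 (h.two hna S).2
  have h2 := card_range_dvd e hF h4
  have h3 := h1.trans (Nat.mul_dvd_mul_right (h2 ▸ card_subgroup_dvd_card _) _)
  rw [mul_right_comm a, Nat.mul_dvd_mul_iff_right (Nat.mul_pos (by positivity) (by omega)), hF,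
    show 2 ^ a - 2 = 2 * (2 ^ (a - 1) - 1) by rw [Nat.mul_sub, ← pow_succ', Nat.sub_add_cancel (by omega)],
    show a * ((2 ^ 2 - 1) * (2 ^ 2 - 2)) = 2 * (a * (2 ^ 2 - 1)) by ring, Nat.mul_dvd_mul_iff_left two_pos] at h3
  rcases num_aff Nat.prime_two ha h3 with h5 | h5 | ⟨rfl, -⟩
  · exact Or.inl h5
  · exact Or.inr (Or.inl h5)
  · refine Or.inr (Or.inr ⟨rfl, eq_top_of_le_card _ ?_⟩)
    have h6 := Nat.le_of_dvd (Nat.mul_pos Nat.card_pos (by norm_num)) h1
    rw [h2]
    rw [hF] at h6 ⊢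
    omega

theorem index_dvd_of_psl [hp : Fact p.Prime] [M.Normal] (hC : centralizer (M : Set G) = ⊥) (e : M ≃* PSL(2, F))
    {f : ℕ} (hF : Fintype.card F = p ^ f) (h4 : 4 ≤ Fintype.card F) :
    M.index ∣ f * Nat.gcd 2 (Fintype.card F - 1) := by
  classical
  have h1 := card_dvd_of_injective _ ((MonoidHom.ker_eq_bot_iff _).1 ((ker_conj M).trans hC))
  rw [card_range_dvd e hF h4, ← GL2.gcd_mul_card_PSL2, ← Nat.card_congr e.toEquiv, ← M.index_mul_card,
    ← mul_assoc] at h1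
  exact Nat.dvd_of_mul_dvd_mul_right Nat.card_pos h1

theorem eq_top_of_psl [hp : Fact p.Prime] [M.Normal] [IsSimpleGroup M] (h2 : BP 2 G) (h3 : BP 3 G)
    (hna : ¬ IsMulCommutative M) (hC : centralizer (M : Set G) = ⊥) (e : M ≃* PSL(2, F))
    {f : ℕ} (hF : Fintype.card F = p ^ f) (h4 : 4 ≤ Fintype.card F) (hf : f ≤ 3) : M = ⊤ := by
  classical
  obtain ⟨S⟩ : Nonempty (Sylow 2 M) := inferInstance
  have h5 := h2.not_dvd_index hna ((show 2 ∣ 4 by norm_num).trans ((four_dvd_card_sylow hna S).trans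
    (card_subgroup_dvd_card _)))
  have h6 := h3.not_dvd_index hna (by
    have h7 := GL2.gcd_mul_card_PSL2 (F := F)
    rw [← Nat.card_congr e.toEquiv] at h7
    refine (Nat.Coprime.of_dvd_right (Nat.gcd_dvd_left 2 (Fintype.card F - 1))
      (show Nat.Coprime 3 2 by norm_num)).dvd_of_dvd_mul_left (h7 ▸ ?_)
    have : Fintype.card F % 3 = 0 ∨ Fintype.card F % 3 = 1 ∨ Fintype.card F % 3 = 2 := by omega
    rcases this with h | h | h
    · exact Dvd.dvd.mul_right (Dvd.dvd.mul_right (by omega) _) _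
    · exact Dvd.dvd.mul_left (by omega) _
    · exact Dvd.dvd.mul_right (Dvd.dvd.mul_left (by omega) _) _)
  have h7 : M.index ∣ 2 ^ 2 * 3 := by
    refine (index_dvd_of_psl hC e hF h4).trans ((Nat.mul_dvd_mul_left f (Nat.gcd_dvd_left _ _)).trans ?_)
    have : f ≠ 0 := by
      rintro rfl
      simp [hF] at h4
    interval_cases f <;> simp_all
  exact index_eq_one.1 (Nat.eq_one_of_dvd_coprimes (((Nat.prime_two.coprime_iff_not_dvd.2 h5).pow_left 2).mul_left
    (Nat.prime_three.coprime_iff_not_dvd.2 h6)) h7 dvd_rfl)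

theorem num_odd (hp : 3 ≤ p) (j : ℕ) :
    ¬ (p ^ (2 * (j + 2) + 1) - p) * 2 ∣ (2 * (j + 2) + 1) * ((p ^ 2 - 1) * (p ^ 2 - p)) := fun h => by
  have h1 : j + 3 ≤ p ^ (2 * j + 1) := by
    have h2 := Nat.pow_le_pow_left hp (2 * j + 1)
    have h3 : 2 * j < 3 ^ (2 * j) := Nat.lt_pow_self (by norm_num)
    rw [pow_succ] at h2
    omega
  obtain ⟨a, rfl⟩ : ∃ a, p = a + 3 := ⟨p - 3, by omega⟩
  rw [show (a + 3) ^ 2 - 1 = a ^ 2 + 6 * a + 8 from Nat.sub_eq_of_eq_add (by ring),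
    show (a + 3) ^ 2 - (a + 3) = a ^ 2 + 5 * a + 6 from Nat.sub_eq_of_eq_add (by ring),
    show 2 * (j + 2) + 1 = 2 * j + 1 + 4 by ring, pow_add] at h
  have h2 := Nat.le_of_dvd (by positivity) h
  have h3 := Nat.mul_le_mul_right ((a + 3) ^ 4) h1
  have h4 : (j + 3) * (a + 3) ^ 4 * 2 = (2 * j + 1 + 4) * ((a ^ 2 + 6 * a + 8) * (a ^ 2 + 5 * a + 6)) +
    (a + 3) * 2 + ((2 * j + 5) * (a ^ 3 + 10 * a ^ 2 + 32 * a + 33) + (a ^ 4 + 12 * a ^ 3 + 54 * a ^ 2 +
      106 * a + 75)) := by ring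
  omega

theorem BP.psl_odd [hp : Fact p.Prime] [M.Normal] [IsSimpleGroup M] (h2 : BP 2 G) (h : BP p G)
    (hna : ¬ IsMulCommutative M) (hC : centralizer (M : Set G) = ⊥) (e : M ≃* PSL(2, F))
    {f : ℕ} (hF : Fintype.card F = p ^ f) (h8 : Fintype.card F % 8 = 3 ∨ Fintype.card F % 8 = 5)
    (h4 : 4 ≤ Fintype.card F) : (p % 8 = 3 ∨ p % 8 = 5) ∧ (f = 1 ∨ f = 3) := by
  classical
  have hp1 := hp.out.one_lt
  have hp2 : p ≠ 2 := by
    rintro rfl
    have : 2 ∣ Fintype.card F := hF ▸ dvd_pow_self 2 (by rintro rfl; simp [hF] at h4)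
    omega
  have hsq : p ^ 2 % 8 = 1 := by
    have h5 := hp.out.eq_two_or_odd.resolve_left hp2
    have : p % 8 = 1 ∨ p % 8 = 3 ∨ p % 8 = 5 ∨ p % 8 = 7 := by omega
    rcases this with e | e | e | e <;> simp [Nat.pow_mod, e]
  have hev : ∀ k, p ^ (2 * k) % 8 = 1 := fun k => by rw [pow_mul, Nat.pow_mod, hsq]; simp
  obtain ⟨k, rfl | rfl⟩ := Nat.even_or_odd' f
  · have := hev k
    omega
  refine ⟨?_, ?_⟩
  · rwa [hF, pow_succ, Nat.mul_mod, hev, one_mul, Nat.mod_mod] at h8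
  by_contra! hf
  obtain ⟨j, rfl⟩ : ∃ j, k = j + 2 := ⟨k - 2, by omega⟩
  obtain ⟨P⟩ : Nonempty (Sylow p G) := inferInstance
  obtain ⟨S⟩ : Nonempty (Sylow 2 M) := inferInstance
  have hq : p < Fintype.card F := by
    calc p = p ^ 1 := (pow_one p).symm
      _ < _ := hF ▸ Nat.pow_lt_pow_right hp1 (by omega)
  have h5 := GL2.gcd_mul_card_PSL2 (F := F)
  have h6 : Nat.gcd 2 (Fintype.card F - 1) = 2 := Nat.gcd_eq_left (by omega)
  rw [← Nat.card_congr e.toEquiv, h6] at h5
  obtain ⟨hP, hPM⟩ := h.elemAb hp2 ((h2.ab2 hna).subgroup M) (by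
    refine ((Nat.coprime_primes hp.out Nat.prime_two).2 hp2).dvd_of_dvd_mul_left (h5 ▸ ?_)
    exact Dvd.dvd.mul_right (Dvd.dvd.mul_right (hF ▸ dvd_pow_self p (by omega)) _) _) P
    (not_isCyclic_of_psl (φ := M.subtype.comp e.symm.toMonoidHom) (M.subtype_injective.comp e.symm.injective) hF hq P)
  have h7 := h.psl_dvd hna e hF hq P hP hPM
  have h9 := index_dvd_of_psl hC e hF h4
  rw [h6] at h9
  have h10 := ((Nat.prime_two.coprime_iff_not_dvd.2 (h2.not_dvd_index hna ((show 2 ∣ 4 by norm_num).trans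
    ((four_dvd_card_sylow hna S).trans (card_subgroup_dvd_card _))))).symm).dvd_of_dvd_mul_right h9
  rw [← Nat.card_congr (MonoidHom.ofInjective ((MonoidHom.ker_eq_bot_iff _).1 ((ker_conj M).trans hC))).toEquiv,
    ← M.index_mul_card, ← h5, ← mul_assoc, mul_right_comm M.index, Nat.mul_dvd_mul_iff_right Nat.card_pos] at h7
  exact num_odd (show 3 ≤ p by omega) j (hF ▸ h7.trans (Nat.mul_dvd_mul_right h10 _))

end psl

end CL.EqOrd
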